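import Cfsg.Agent.BenderW3.Main
import Cfsg.Agent.BenderW3.GammaL

/-!
# The last case of W3

From a frame with faithful `D` and an element of prime order centralising exactly one involution
of `E a`, the frame of the character-theoretic part; hence `LastCase`.
-/

set_option autoImplicit false

universe u v

namespace Cfsg.Agent.BenderW3.LastCase

open MulAction Cfsg.Agent.StrongEmb.Basic Cfsg.Agent.TwoFusion.StronglyEmbeddedBasic
open Cfsg.Agent.BenderW3.Setup Cfsg.Agent.BenderW3.CaseY Cfsg.Agent.BenderW3.NoBad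
open Cfsg.Agent.BenderW3.Singer

variable {G : Type u} {Ω : Type v} [Group G] [MulAction G Ω]

theorem exists_frame [Finite G] (h : Setup.Frame G Ω) {a b : Ω} {w t x : G} {p : ℕ} (hab : a ≠ b)
    (hw : orderOf w = 2) (hwa : w • a = b)
    (hY : ∀ d : G, d • a = a → d • b = b → (∀ e ∈ E G a, d * e = e * d) → d = 1)
    (ht : t ∈ E G a) (ht1 : t ≠ 1) (hxa : x • a = a) (hxb : x • b = b) (hxt : x * t = t * x)
    (hun : ∀ e ∈ E G a, x * e = e * x → e = 1 ∨ e = t) (hp : p.Prime) (hx : orderOf x = p) :
    ∃ K : Subgroup G, BenderW3.Frame p (stabilizer G a) (E G a) K (Subgroup.zpowers x) t w := by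
  obtain ⟨htt, hta⟩ := h.mem_E.mp ht
  have ht2 : orderOf t = 2 := orderOf_eq_two_of_mul_self htt ht1
  have hwb : w • b = a := smul_of_involution hw hwa
  have hwi := inv_eq_self_of_orderOf hw
  have hww := mul_self_of_orderOf hw
  obtain ⟨K, hK⟩ := exists_singer h hab hw hwa ht2 hta hY
  obtain ⟨hcardE, hV⟩ := card_of_unique h hK hY ht ht1 hxa hxb hxt hun hp hx
  have hxV : ∀ v, v ∈ Subgroup.zpowers x ↔ v • a = a ∧ v • b = b ∧ v * t = t * v := by
    have h1 : ∀ v, v ∈ stabilizer G a ⊓ stabilizer G b ⊓ Subgroup.centralizer ({t} : Set G) ↔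
        v • a = a ∧ v • b = b ∧ v * t = t * v := by
      intro v
      rw [Subgroup.mem_inf, Subgroup.mem_inf, mem_stabilizer_iff, mem_stabilizer_iff,
        Subgroup.mem_centralizer_singleton_iff, and_assoc]
    rw [← (hV _ h1).2]
    exact h1
  have hD : ∀ d : G, d ∈ stabilizer G a → w * d * w⁻¹ ∈ stabilizer G a → d • a = a ∧ d • b = b := by
    intro d hd hwd
    refine ⟨hd, ?_⟩
    have h1 : (w * d * w⁻¹) • a = a := hwd
    rw [hwi, mul_smul, mul_smul, hwa] at h1
    have h2 : w • w • d • b = w • a := by rw [h1]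
    rwa [← mul_smul, hww, one_smul, hwa] at h2
  have hD' : ∀ d : G, d • b = b → w * d * w⁻¹ ∈ stabilizer G a := by
    intro d hd
    show (w * d * w⁻¹) • a = a
    rw [hwi, mul_smul, mul_smul, hwa, hd, hwb]
  have hKD : ∀ k ∈ K, k • a = a ∧ k • b = b := fun k hk =>
    ⟨((hK.mem_iff k).mp hk).1, ((hK.mem_iff k).mp hk).2.1⟩
  have hKi : ∀ k ∈ K, w * k * w⁻¹ = k⁻¹ := fun k hk => ((hK.mem_iff k).mp hk).2.2
  have hsb : t • b ≠ b := fun e => hab (h.uniq.eq ht2 hta e)
  have hKodd : ∀ k ∈ K, k = k⁻¹ → k = 1 := by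
    intro k hk hkk
    have h1 := odd_orderOf_of_fix h hab (hKD k hk).1 (hKD k hk).2
    have h2 : orderOf k ∣ 2 := by
      apply orderOf_dvd_of_pow_eq_one
      rw [pow_two]
      nth_rewrite 2 [hkk]
      exact mul_inv_cancel k
    rcases (Nat.dvd_prime Nat.prime_two).mp h2 with h3 | h3
    · exact orderOf_eq_one_iff.mp h3
    · rw [h3] at h1; exact absurd h1 (by decide)
  -- centralizers in `D`
  have hCD : ∀ k ∈ K, k ≠ 1 → ∀ c : G, c • a = a → c • b = b → c * k = k * c → c ∈ K := by
    intro k hk hk1 c hca hcb hck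
    obtain ⟨l, hl, v, hva, hvb, hvt, rfl⟩ := exists_mul_eq h hK ht ht1 hca hcb
    have hvk : v * k = k * v := by
      have h1 : l * (v * k) = l * (k * v) := by
        rw [← mul_assoc, hck, ← mul_assoc, ← mul_assoc, hK.comm k hk l hl]
      exact mul_left_cancel h1
    by_cases hv1 : v = 1
    · rw [hv1, mul_one]; exact hl
    exfalso
    apply hk1
    -- `k * t * k⁻¹` is centralised by `v`
    have hvx : v ∈ Subgroup.zpowers x := (hxV v).mpr ⟨hva, hvb, hvt⟩
    have hzp : Subgroup.zpowers v = Subgroup.zpowers x := by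
      have h1 : Subgroup.zpowers v ≤ Subgroup.zpowers x := by
        rw [Subgroup.zpowers_le]; exact hvx
      refine Subgroup.eq_of_le_of_card_ge h1 ?_
      rw [Nat.card_zpowers, Nat.card_zpowers, hx]
      have h2 : orderOf v ∣ p := by
        have h3 := Subgroup.card_dvd_of_le h1
        rwa [Nat.card_zpowers, Nat.card_zpowers, hx] at h3
      rcases (Nat.dvd_prime hp).mp h2 with h3 | h3
      · exact absurd (orderOf_eq_one_iff.mp h3) hv1
      · exact h3.ge
    have hkt : k * t * k⁻¹ ∈ E G a := h.conj_mem_E' ht (hKD k hk).1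
    have h1 : v * (k * t * k⁻¹) = k * t * k⁻¹ * v := by
      have h2 : v * k⁻¹ = k⁻¹ * v := by
        calc v * k⁻¹ = k⁻¹ * (k * v) * k⁻¹ := by group
          _ = k⁻¹ * v := by rw [← hvk]; group
      calc v * (k * t * k⁻¹) = (v * k) * t * k⁻¹ := by group
        _ = k * (v * t) * k⁻¹ := by rw [hvk]; group
        _ = k * t * (v * k⁻¹) := by rw [hvt]; group
        _ = k * t * k⁻¹ * v := by rw [h2]; group
    have h2 : x * (k * t * k⁻¹) = k * t * k⁻¹ * x := by
      have h3 : x ∈ Subgroup.zpowers v := by rw [hzp]; exact Subgroup.mem_zpowers x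
      have h4 : Subgroup.zpowers v ≤ Subgroup.centralizer ({k * t * k⁻¹} : Set G) := by
        rw [Subgroup.zpowers_le]
        exact Subgroup.mem_centralizer_singleton_iff.mpr h1
      exact Subgroup.mem_centralizer_singleton_iff.mp (h4 h3)
    rcases hun _ hkt h2 with h5 | h5
    · exfalso
      apply ht1
      calc t = k⁻¹ * (k * t * k⁻¹) * k := by group
        _ = 1 := by rw [h5]; group
    · refine hK.free k hk t ht ht1 ?_
      calc k * t = (k * t * k⁻¹) * k := by group
        _ = t * k := by rw [h5]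
  refine ⟨K, ?_⟩
  exact
    { hp := hp
      hp3 := by
        have h1 := odd_orderOf_of_fix h hab hxa hxb
        rw [hx] at h1
        rcases hp.eq_two_or_odd' with h2 | h2
        · rw [h2] at h1; exact absurd h1 (by decide)
        · have := hp.two_le
          rcases h2 with ⟨m, hm⟩
          omega
      se := h.uniq.stronglyEmbedded ht2 hta (g := w) (by rw [hwa]; exact hab.symm)
      twoTrans := by
        intro g hg
        have h1 : g • a ≠ a := hg
        obtain ⟨c, hca, hcb⟩ := h.trans a b (g • a) hab.symm h1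
        refine ⟨c, hca, w⁻¹ * c⁻¹ * g, ?_, by group⟩
        show (w⁻¹ * c⁻¹ * g) • a = a
        rw [mul_smul, mul_smul, ← hcb, inv_smul_smul, hwi, hwb]
      hu := hw
      huH := fun e => hab (by rw [← hwa]; exact e.symm)
      ZH := fun z hz => (h.mem_E.mp hz).2
      Znor := fun g hg z hz => h.conj_mem_E' hz hg
      Zel := fun z hz => (h.mem_E.mp hz).1
      Zinv := fun z hz hz2 => h.mem_E_of_orderOf hz2 hz
      cardZ := hcardE
      hs := ht
      hs1 := ht1
      KH := fun k hk => (hKD k hk).1
      Kinv := hKi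
      Ktrans := fun z hz hz1 => hK.reg t ht ht1 z hz hz1
      Kfree := fun k hk hkt => hK.free k hk t ht ht1 hkt
      Kall := by
        intro y hy hwy
        obtain ⟨hya, hyb⟩ := hD y hy (by rw [hwy]; exact inv_mem hy)
        exact (hK.mem_iff y).mpr ⟨hya, hyb, hwy⟩
      KC := by
        intro k hk hk1
        apply le_antisymm
        · intro c hc
          have hck : c * k = k * c := Subgroup.mem_centralizer_singleton_iff.mp hc
          have hfix : ∀ y : Ω, k • y = y → k • (c • y) = c • y := by
            intro y hy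
            rw [← mul_smul, ← hck, mul_smul, hy]
          rcases hK.fix k hk hk1 (c • a) (hfix a (hKD k hk).1) with h1 | h1
          · rcases hK.fix k hk hk1 (c • b) (hfix b (hKD k hk).2) with h2 | h2
            · exfalso
              apply hab
              exact (smul_left_cancel c (h1.trans h2.symm))
            · exact hCD k hk hk1 c h1 h2 hck
          · exfalso
            have h2 : c • b = a := by
              rcases hK.fix k hk hk1 (c • b) (hfix b (hKD k hk).2) with h2 | h2
              · exact h2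
              · exact absurd (smul_left_cancel c (h1.trans h2.symm)) hab
            -- `d = w * c` lies in `D` and inverts `k`
            have hda : (w * c) • a = a := by rw [mul_smul, h1, hwb]
            have hdb : (w * c) • b = b := by rw [mul_smul, h2, hwa]
            have hdk : (w * c) * k * (w * c)⁻¹ = k⁻¹ := by
              calc (w * c) * k * (w * c)⁻¹ = w * (c * k) * c⁻¹ * w⁻¹ := by group
                _ = w * k * w⁻¹ := by rw [hck]; group
                _ = k⁻¹ := hKi k hk
            have hodd := odd_orderOf_of_fix h hab hda hdb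
            have hcomm2 : Commute ((w * c) * (w * c)) k := by
              have e : (w * c) * (w * c) * k * ((w * c) * (w * c))⁻¹ = k := by
                calc (w * c) * (w * c) * k * ((w * c) * (w * c))⁻¹
                    = (w * c) * ((w * c) * k * (w * c)⁻¹) * (w * c)⁻¹ := by group
                  _ = (w * c) * k⁻¹ * (w * c)⁻¹ := by rw [hdk]
                  _ = ((w * c) * k * (w * c)⁻¹)⁻¹ := by group
                  _ = k := by rw [hdk, inv_inv]
              exact mul_inv_eq_iff_eq_mul.mp e
            have hcomm := commute_of_sq hodd hcomm2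
            apply hk1
            apply hKodd k hk
            rw [← hdk, hcomm.eq]; group
        · intro l hl
          exact Subgroup.mem_centralizer_singleton_iff.mpr (hK.comm l hl k hk)
      Kfix := by
        intro k hk hk1 g hg
        have h1 : k • (g • a) = g • a := by
          have h2 : (g⁻¹ * k * g) • a = a := hg
          rw [mul_smul, mul_smul, inv_smul_eq_iff] at h2
          exact h2
        rcases hK.fix k hk hk1 _ h1 with h2 | h2
        · exact Or.inl h2
        · right
          show (w * g) • a = a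
          rw [mul_smul, h2, hwb]
      Knor := by
        intro d hd hwd k hk
        obtain ⟨hda, hdb⟩ := hD d hd hwd
        exact hK.normal d hda hdb k hk
      PH := by
        rw [Subgroup.zpowers_le]; exact hxa
      PuH := fun y hy => hD' y ((hxV y).mp hy).2.1
      cardP := by rw [Nat.card_zpowers, hx]
      Ps := fun y hy => ((hxV y).mp hy).2.2
      dec := by
        intro d hd hwd
        obtain ⟨hda, hdb⟩ := hD d hd hwd
        obtain ⟨k, hk, v, hva, hvb, hvt, hdv⟩ := exists_mul_eq h hK ht ht1 hda hdb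
        exact ⟨k, hk, v, (hxV v).mpr ⟨hva, hvb, hvt⟩, hdv⟩ }

theorem lastCase [Finite G] (h : Setup.Frame G Ω) : Main.LastCase G Ω := by
  intro a b w t x p hab hw hwa hY ht ht1 hxa hxb hxt hun hp hx
  obtain ⟨K, F⟩ := exists_frame h hab hw hwa hY ht ht1 hxa hxb hxt hun hp hx
  have hmain := F.main
  obtain ⟨htt, hta⟩ := h.mem_E.mp ht
  have ht2 : orderOf t = 2 := orderOf_eq_two_of_mul_self htt ht1
  have hwb : w • b = a := smul_of_involution hw hwa
  have hwi := inv_eq_self_of_orderOf hw
  have hww := mul_self_of_orderOf hw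
  set Q : Subgroup G := Subgroup.centralizer (E G a : Set G) with hQ
  have hQa : ∀ q ∈ Q, q • a = a := fun q hq => smul_eq_of_mem h ht2 hta hq
  have hQn : ∀ g : G, g • a = a → ∀ q ∈ Q, g * q * g⁻¹ ∈ Q := by
    intro g hg q hq
    rw [hQ, Subgroup.mem_centralizer_iff]
    intro e he
    have hg' : g⁻¹ • a = a := inv_smul_eq_iff.mpr hg.symm
    have h1 := h.conj_mem_E' he hg'
    rw [inv_inv] at h1
    have h2 := Subgroup.mem_centralizer_iff.mp hq _ h1
    calc e * (g * q * g⁻¹) = g * ((g⁻¹ * e * g) * q) * g⁻¹ := by group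
      _ = g * (q * (g⁻¹ * e * g)) * g⁻¹ := by rw [h2]
      _ = g * q * g⁻¹ * e := by group
  have htr : ∀ y : Ω, y ≠ a → ∃ q ∈ Q, q • b = y := by
    intro y hy
    obtain ⟨g, hga, hgb⟩ := h.trans a b y hab.symm hy
    obtain ⟨d, c, hd, hwd, hc, hdc⟩ := hmain g⁻¹ (inv_mem hga)
    have hdb : d • b = b := by
      have h1 : (w * d * w⁻¹) • a = a := hwd
      rw [hwi, mul_smul, mul_smul, hwa] at h1
      have h2 : w • w • d • b = w • a := by rw [h1]
      rwa [← mul_smul, hww, one_smul, hwa] at h2
    refine ⟨c⁻¹, inv_mem hc, ?_⟩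
    have h1 : g = c⁻¹ * d⁻¹ := by rw [← mul_inv_rev, ← hdc, inv_inv]
    rw [← hgb, h1, mul_smul, inv_smul_eq_iff.mpr hdb.symm]
  refine ⟨Q, hQa, hQn, fun y z hy hz => ?_⟩
  obtain ⟨q, hq, hqy⟩ := htr y hy
  obtain ⟨r, hr, hrz⟩ := htr z hz
  refine ⟨r * q⁻¹, ⟨mul_mem hr (inv_mem hq), by rw [mul_smul, ← hqy, inv_smul_smul, hrz]⟩, ?_⟩
  rintro m ⟨hm, hmy⟩
  have h1 : r⁻¹ * m * q = 1 := by
    refine hY _ ?_ ?_ ?_
    · exact hQa _ (mul_mem (mul_mem (inv_mem hr) hm) hq)
    · rw [mul_smul, mul_smul, hqy, hmy, ← hrz, inv_smul_smul]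
    · intro e he
      exact (Subgroup.mem_centralizer_iff.mp (mul_mem (mul_mem (inv_mem hr) hm) hq) e he).symm
  calc m = r * (r⁻¹ * m * q) * q⁻¹ := by group
    _ = r * q⁻¹ := by rw [h1, mul_one]

end Cfsg.Agent.BenderW3.LastCase
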