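import Mathlib
import Cfsg.Agent.BenderW3.Setup
import Cfsg.Agent.StrongEmb.TransferSolv

/-!
# Bender's theorem, the normal complement: the case `C_D(E_a) ≠ 1`

In a `Frame`, if some `y ≠ 1` fixing `a` and `b ≠ a` centralizes all involutions fixing `a`, then
`G_a` has a normal subgroup regular on the points other than `a`. The inductive information is
`LocalC` (for centralizers of subgroups) and `ClP` (pairs of fixed points of a `p`-group with at
least three fixed points are swapped by involutions centralizing it).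
-/

set_option autoImplicit false

namespace Cfsg.Agent.BenderW3.CaseY

open MulAction Cfsg.Agent.StrongEmb.Basic Cfsg.Agent.TwoFusion.StronglyEmbeddedBasic
open Cfsg.Agent.BenderW3.Setup
open Cfsg.Agent.StrongEmb.TransferCompl (Local hall)

/-- The inductive information on centralizers of subgroups fixing two points. -/
def LocalC (G Ω : Type*) [Group G] [MulAction G Ω] : Prop :=
  ∀ (J : Subgroup G) (a b : Ω), J ≠ ⊥ → a ≠ b → (∀ j ∈ J, j • a = a) → (∀ j ∈ J, j • b = b) →
    (∃ s ∈ Subgroup.centralizer (J : Set G), ∃ t ∈ Subgroup.centralizer (J : Set G),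
      orderOf s = 2 ∧ orderOf t = 2 ∧ s ≠ t ∧ s • a = a ∧ t • a = a) →
    ∃ S : Subgroup G, IsPGroup 2 S ∧ S ≤ Subgroup.centralizer (J : Set G) ∧
      (∀ s ∈ S, s • a = a) ∧
      (∀ s ∈ S, ∀ t ∈ E G a, t ∈ Subgroup.centralizer (J : Set G) → s * t = t * s) ∧
      ∀ x y : Ω, x ≠ a → y ≠ a → (∃ g ∈ Subgroup.centralizer (J : Set G), g • a = x) →
        (∃ g ∈ Subgroup.centralizer (J : Set G), g • a = y) → ∃ s ∈ S, s • x = y

/-- Two of three fixed points of a nontrivial `p`-group are swapped by an involution centralizing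
it. -/
def ClP (G Ω : Type*) [Group G] [MulAction G Ω] : Prop :=
  ∀ (p : ℕ) (P : Subgroup G), p.Prime → IsPGroup p P → P ≠ ⊥ → ∀ x y z : Ω, x ≠ y → x ≠ z →
    y ≠ z → (∀ g ∈ P, g • x = x) → (∀ g ∈ P, g • y = y) → (∀ g ∈ P, g • z = z) →
    ∃ u ∈ Subgroup.centralizer (P : Set G), orderOf u = 2 ∧ u • x = y

section

variable {G Ω : Type*} [Group G] [MulAction G Ω]

theorem smul_eq_of_mem {a : Ω} (h : Frame G Ω) {s : G} (hs : orderOf s = 2) (hsa : s • a = a)
    {c : G} (hc : c ∈ Subgroup.centralizer (E G a : Set G)) : c • a = a := by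
  refine h.uniq.fix_of_commute hs hsa ?_
  exact (Subgroup.mem_centralizer_iff.mp hc s (h.mem_E_of_orderOf hs hsa)).symm

/-- The key property of `p`-subgroups of `C_D(E_a)`. -/
theorem exists_two_group [Finite G] (h : Frame G Ω) (hloc : LocalC G Ω) (hcl : ClP G Ω) {a b : Ω}
    (hab : a ≠ b) {s t : G} (hs : orderOf s = 2) (hsa : s • a = a) (ht : orderOf t = 2)
    (hta : t • a = a) (hst : s ≠ t) {p : ℕ} (hp : p.Prime) {J : Subgroup G} (hJ : J ≠ ⊥)
    (hJp : IsPGroup p J) (hJb : ∀ j ∈ J, j • b = b)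
    (hJE : J ≤ Subgroup.centralizer (E G a : Set G)) :
    ∃ S : Subgroup G, IsPGroup 2 S ∧ S ≤ Subgroup.centralizer (J : Set G) ∧
      S ≤ Subgroup.centralizer (E G a : Set G) ∧
      ∀ x y : Ω, x ≠ a → y ≠ a → (∀ j ∈ J, j • x = x) → (∀ j ∈ J, j • y = y) →
        ∃ s ∈ S, s • x = y := by
  have hJa : ∀ j ∈ J, j • a = a := fun j hj => smul_eq_of_mem h hs hsa (hJE hj)
  have hEJ : ∀ e ∈ E G a, e ∈ Subgroup.centralizer (J : Set G) := by
    intro e he
    rw [Subgroup.mem_centralizer_iff]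
    intro j hj
    exact (Subgroup.mem_centralizer_iff.mp (hJE hj) e he).symm
  have hsE := h.mem_E_of_orderOf hs hsa
  have htE := h.mem_E_of_orderOf ht hta
  obtain ⟨S, hS2, hSJ, hSa, hSE, hStr⟩ := hloc J a b hJ hab hJa hJb
    ⟨s, hEJ s hsE, t, hEJ t htE, hs, ht, hst, hsa, hta⟩
  -- every fixed point is in the orbit of `a`
  have horb : ∀ x : Ω, x ≠ a → (∀ j ∈ J, j • x = x) →
      ∃ g ∈ Subgroup.centralizer (J : Set G), g • a = x := by
    intro x hxa hx
    have h1 : s • x ≠ x := fun hc => hxa (h.uniq.eq hs hc hsa)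
    have h2 : s • x ≠ a := by
      intro hc
      apply hxa
      rw [← hsa] at hc
      exact MulAction.injective s hc
    obtain ⟨u, hu, -, hux⟩ := hcl p J hp hJp hJ a x (s • x) hxa.symm h2.symm h1.symm hJa hx (by
      intro j hj
      have h3 : j * s = s * j := (Subgroup.mem_centralizer_iff.mp (hEJ s hsE) j hj)
      rw [← mul_smul, h3, mul_smul, hx j hj])
    exact ⟨u, hu, hux⟩
  refine ⟨S, hS2, hSJ, ?_, fun x y hx hy hxJ hyJ => hStr x y hx hy (horb x hx hxJ) (horb y hy hyJ)⟩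
  intro s' hs'
  rw [Subgroup.mem_centralizer_iff]
  intro e he
  exact (hSE s' hs' e he (hEJ e he)).symm

/-- **The case `C_D(E_a) ≠ 1`.** -/
theorem exists_regular [Finite G] [Finite Ω] (h : Frame G Ω) (hloc : LocalC G Ω) (hcl : ClP G Ω)
    {a b : Ω} (hab : a ≠ b) {s t : G} (hs : orderOf s = 2) (hsa : s • a = a)
    (ht : orderOf t = 2) (hta : t • a = a) (hst : s ≠ t)
    (hsolv : ∀ K : Subgroup G, Odd (Nat.card K) → Group.IsSolvable K)
    {y : G} (hy1 : y ≠ 1) (hyb : y • b = b) (hyE : ∀ e ∈ E G a, y * e = e * y) :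
    ∃ Q : Subgroup G, (∀ q ∈ Q, q • a = a) ∧ (∀ g : G, g • a = a → ∀ q ∈ Q, g * q * g⁻¹ ∈ Q) ∧
      (∀ x z : Ω, x ≠ a → z ≠ a → ∃ q ∈ Q, q • x = z) ∧
      (∀ x : Ω, x ≠ a → ∀ q ∈ Q, q • x = x → q = 1) := by
  classical
  let C : Subgroup G := Subgroup.centralizer (E G a : Set G)
  have hCa : ∀ c ∈ C, c • a = a := fun c hc => smul_eq_of_mem h hs hsa hc
  let Ω' : SubMulAction C Ω :=
    { carrier := {x | x ≠ a}
      smul_mem' := by
        intro c x hx hc
        apply hx
        have h1 : (c : G) • x = (c : G) • a := by rw [hCa c c.2]; exact hc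
        exact MulAction.injective (c : G) h1 }
  have hfinΩ' : Finite Ω' := inferInstanceAs (Finite {x // x ≠ a})
  let b' : Ω' := ⟨b, hab.symm⟩
  have hcoe : ∀ (c : C) (x : Ω'), ((c • x : Ω') : Ω) = (c : G) • (x : Ω) := fun _ _ => rfl
  have hmem_stab : ∀ (c : C) (x : Ω'), c ∈ stabilizer C x ↔ (c : G) • (x : Ω) = x := by
    intro c x
    rw [mem_stabilizer_iff, ← hcoe]
    exact Subtype.ext_iff
  -- the stabilizer is of odd order, hence solvable
  have hodd : Odd (Nat.card (stabilizer C b')) := by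
    have h1 := h.uniq.odd_of_fixes_two hab ((stabilizer C b').map C.subtype)
      (by rintro _ ⟨c, hc, rfl⟩; exact hCa c c.2)
      (by rintro _ ⟨c, hc, rfl⟩; exact (hmem_stab c b').mp hc)
    rwa [Subgroup.card_map_of_injective C.subtype_injective] at h1
  have hsol : Group.IsSolvable (stabilizer C b') := by
    have h1 := hsolv ((stabilizer C b').map C.subtype) (by
      rwa [Subgroup.card_map_of_injective C.subtype_injective])
    have e := (stabilizer C b').equivMapOfInjective C.subtype C.subtype_injective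
    exact Group.isSolvable_of_isSolvable_injective (f := e.toMonoidHom) e.injective
  -- the two-groups
  have key : ∀ J : Subgroup C, J ≠ ⊥ → J ≤ stabilizer C b' → ∀ p : ℕ, p.Prime → IsPGroup p J →
      ∃ S : Subgroup C, IsPGroup 2 S ∧ (∀ s ∈ S, ∀ j ∈ J, s * j = j * s) ∧
        ∀ x z : Ω', (∀ j ∈ J, j • x = x) → (∀ j ∈ J, j • z = z) → ∃ s ∈ S, s • x = z := by
    intro J hJ hJb p hp hJp
    obtain ⟨S, hS2, hSJ, hSC, hStr⟩ := exists_two_group h hloc hcl hab hs hsa ht hta hst hp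
      (J := J.map C.subtype) (by rwa [Ne, Subgroup.map_eq_bot_iff_of_injective _ C.subtype_injective])
      (hJp.map _) (by rintro _ ⟨j, hj, rfl⟩; exact (hmem_stab j b').mp (hJb hj))
      (by rintro _ ⟨j, hj, rfl⟩; exact j.2)
    refine ⟨S.subgroupOf C, hS2.comap_of_injective C.subtype C.subtype_injective, ?_, ?_⟩
    · intro s' hs' j hj
      apply Subtype.ext
      exact (Subgroup.mem_centralizer_iff.mp (hSJ (Subgroup.mem_subgroupOf.mp hs')) j
        ⟨j, hj, rfl⟩).symm
    · intro x z hx hz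
      obtain ⟨s', hs', hsx⟩ := hStr x z x.2 z.2
        (by rintro _ ⟨j, hj, rfl⟩; exact congrArg Subtype.val (hx j hj))
        (by rintro _ ⟨j, hj, rfl⟩; exact congrArg Subtype.val (hz j hj))
      exact ⟨⟨s', hSC hs'⟩, Subgroup.mem_subgroupOf.mpr hs', Subtype.ext hsx⟩
  have hlocal : ∀ J : Subgroup C, J ≠ ⊥ → J ≤ stabilizer C b' →
      (∃ p : ℕ, p.Prime ∧ IsPGroup p J) → Local b' J := by
    rintro J hJ hJb ⟨p, hp, hJp⟩
    obtain ⟨S, hS2, hSJ, hStr⟩ := key J hJ hJb p hp hJp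
    have hbfix : ∀ j ∈ J, j • b' = b' := fun j hj => hJb hj
    refine ⟨?_, ?_⟩
    · have h2 : (fixedPoints J Ω' : Set Ω') = orbit S b' := by
        ext x
        constructor
        · intro hx
          obtain ⟨s', hs', hsx⟩ := hStr b' x hbfix (fun j hj => hx ⟨j, hj⟩)
          exact ⟨⟨s', hs'⟩, hsx⟩
        · rintro ⟨⟨s', hs'⟩, rfl⟩ ⟨j, hj⟩
          change j • s' • b' = s' • b'
          rw [← mul_smul, ← hSJ s' hs' j hj, mul_smul, hbfix j hj]
      obtain ⟨k, hk⟩ := hS2.card_orbit b'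
      have h3 : Nat.card (fixedPoints J Ω') = 2 ^ k := by
        rw [← hk, h2]
      rw [h3]
      exact (Nat.coprime_two_left.mpr hodd).pow_left k
    · intro x hx
      obtain ⟨s', hs', hsx⟩ := hStr b' x hbfix hx
      exact ⟨s', fun j hj => hSJ s' hs' j hj, hsx⟩
  obtain ⟨K, hKn, hKtop, hKbot⟩ :=
    Cfsg.Agent.StrongEmb.TransferSolv.exists_compl_of_isSolvable b' hsol hlocal
  have hHall := hall (b := b') hlocal
  -- `C` is transitive
  have hcard_stab : ∀ x : Ω', Nat.card (stabilizer C x) = Nat.card (stabilizer C b') := by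
    intro x
    obtain ⟨g, hga, hgb⟩ := h.trans a b x hab.symm x.2
    have hgC : ∀ c : G, c ∈ C ↔ g * c * g⁻¹ ∈ C := by
      have h0 : ∀ g : G, g • a = a → ∀ c ∈ C, g * c * g⁻¹ ∈ C := by
        intro g hga c hc
        rw [Subgroup.mem_centralizer_iff]
        intro e he
        have h1 := h.conj_mem_E' he (g := g⁻¹) (by rw [inv_smul_eq_iff, hga])
        have h2 := Subgroup.mem_centralizer_iff.mp hc _ h1
        calc e * (g * c * g⁻¹) = g * (g⁻¹ * e * g⁻¹⁻¹ * c) * g⁻¹ := by group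
          _ = g * (c * (g⁻¹ * e * g⁻¹⁻¹)) * g⁻¹ := by rw [h2]
          _ = g * c * g⁻¹ * e := by group
      intro c
      refine ⟨h0 g hga c, fun hc => ?_⟩
      have := h0 g⁻¹ (by rw [inv_smul_eq_iff, hga]) _ hc
      have e : g⁻¹ * (g * c * g⁻¹) * g⁻¹⁻¹ = c := by group
      rwa [e] at this
    symm
    refine Nat.card_congr ⟨fun c => ⟨⟨g * c * g⁻¹, (hgC _).mp c.1.2⟩, ?_⟩,
      fun c => ⟨⟨g⁻¹ * c * g, (hgC _).mpr (by
        have e : g * (g⁻¹ * ((c : C) : G) * g) * g⁻¹ = c := by group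
        rw [e]; exact c.1.2)⟩, ?_⟩, ?_, ?_⟩
    · rw [hmem_stab]
      have hc := (hmem_stab _ _).mp c.2
      change (g * ((c : C) : G) * g⁻¹) • (x : Ω) = x
      rw [← hgb, mul_smul, mul_smul, inv_smul_smul]
      rw [show ((c : C) : G) • b = b from hc]
    · rw [hmem_stab]
      have hc := (hmem_stab _ _).mp c.2
      change (g⁻¹ * ((c : C) : G) * g) • b = b
      rw [mul_smul, mul_smul, hgb, hc, ← hgb, inv_smul_smul]
    · intro c
      apply Subtype.ext; apply Subtype.ext
      change g⁻¹ * (g * ((c : C) : G) * g⁻¹) * g = c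
      group
    · intro c
      apply Subtype.ext; apply Subtype.ext
      change g * (g⁻¹ * ((c : C) : G) * g) * g⁻¹ = c
      group
  have hindex : ∀ x : Ω', (stabilizer C x).index = (stabilizer C b').index := by
    intro x
    have h1 := (stabilizer C x).card_mul_index
    have h2 := (stabilizer C b').card_mul_index
    rw [← h2, hcard_stab x] at h1
    exact Nat.eq_of_mul_eq_mul_left Nat.card_pos h1
  have hyC : y ∈ C := by
    rw [Subgroup.mem_centralizer_iff]
    exact fun e he => (hyE e he).symm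
  have hystab : (⟨y, hyC⟩ : C) ∈ stabilizer C b' := (hmem_stab _ _).mpr hyb
  have hne : stabilizer C b' ≠ ⊥ := by
    intro hc
    rw [hc, Subgroup.mem_bot] at hystab
    exact hy1 (congrArg Subtype.val hystab)
  have hcard1 : Nat.card (stabilizer C b') ≠ 1 := fun hc => hne (Subgroup.card_eq_one.mp hc)
  obtain ⟨l, hl, hld⟩ := Nat.exists_prime_and_dvd hcard1
  have hlf : Fact l.Prime := ⟨hl⟩
  obtain ⟨X⟩ : Nonempty (Sylow l (stabilizer C b')) := inferInstance
  let X' : Subgroup C := (X : Subgroup (stabilizer C b')).map (stabilizer C b').subtype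
  have hX'p : IsPGroup l X' := X.isPGroup'.map _
  have hX'b : X' ≤ stabilizer C b' := Subgroup.map_subtype_le _
  have hX'ne : X' ≠ ⊥ := by
    intro hc
    have h1 : (X : Subgroup (stabilizer C b')) = ⊥ := by
      rwa [Subgroup.map_eq_bot_iff_of_injective _ (stabilizer C b').subtype_injective] at hc
    have h2 := X.card_eq_multiplicity
    rw [h1, Subgroup.card_bot] at h2
    have h3 := hl.factorization_pos_of_dvd Nat.card_pos.ne' hld
    have h4 : l ^ 1 ∣ l ^ (Nat.card (stabilizer C b')).factorization l := pow_dvd_pow l h3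
    rw [← h2, pow_one, Nat.dvd_one] at h4
    exact hl.one_lt.ne' h4
  have htrans : ∀ x : Ω', ∃ c : C, c • b' = x := by
    intro x
    obtain ⟨S, hS2, hSJ, hStr⟩ := key X' hX'ne hX'b l hl hX'p
    -- a fixed point of `X'` on the orbit of `x`
    have hldiv : ¬ l ∣ Nat.card (orbit C x) := by
      have h1 : Nat.card (orbit C x) = (stabilizer C x).index := (index_stabilizer C x).symm
      rw [h1, hindex x]
      intro hc
      exact hl.one_lt.ne' (Nat.dvd_one.mp (hHall ▸ Nat.dvd_gcd hld hc))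
    let act : MulAction X' (orbit C x) :=
      { smul := fun g z => ⟨(g : C) • (z : Ω'), by
          obtain ⟨c, hc⟩ := z.2
          refine ⟨(g : C) * c, ?_⟩
          change ((g : C) * c) • x = (g : C) • (z : Ω')
          rw [mul_smul, ← hc]⟩
        one_smul := fun z => Subtype.ext (one_smul C (z : Ω'))
        mul_smul := fun g g' z => Subtype.ext (mul_smul (g : C) (g' : C) (z : Ω')) }
    obtain ⟨z, hz⟩ := hX'p.nonempty_fixed_point_of_prime_not_dvd_card (orbit C x) hldiv
    obtain ⟨s', -, hs'⟩ := hStr b' z (fun j hj => hX'b hj) (fun j hj => by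
      exact congrArg Subtype.val (hz ⟨j, hj⟩))
    obtain ⟨c, hc⟩ := z.2
    refine ⟨c⁻¹ * s', ?_⟩
    rw [mul_smul, hs', inv_smul_eq_iff]
    exact hc.symm
  -- `K` is transitive and semiregular
  have hKtrans : ∀ x : Ω', ∃ k ∈ K, k • b' = x := by
    intro x
    obtain ⟨c, hc⟩ := htrans x
    have h1 : c ∈ K ⊔ stabilizer C b' := by rw [hKtop]; trivial
    obtain ⟨k, hk, s', hs', hks⟩ := Subgroup.mem_sup_of_normal_left.mp h1
    refine ⟨k, hk, ?_⟩
    rw [← hc, ← hks, mul_smul, mem_stabilizer_iff.mp hs']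
  have hKcard : Nat.card K = (stabilizer C b').index := by
    have hc : K.IsComplement' (stabilizer C b') :=
      Subgroup.isComplement'_of_disjoint_and_mul_eq_univ (disjoint_iff.mpr hKbot) (by
        rw [← Subgroup.normal_mul, hKtop, Subgroup.coe_top])
    have h1 := hc.card_mul_card
    have h2 := (stabilizer C b').card_mul_index
    rw [← h2, mul_comm] at h1
    exact Nat.eq_of_mul_eq_mul_left Nat.card_pos h1
  have hKidx : K.index = Nat.card (stabilizer C b') := by
    have h1 := K.card_mul_index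
    have h2 := (stabilizer C b').card_mul_index
    rw [← h2, hKcard, mul_comm] at h1
    refine Nat.eq_of_mul_eq_mul_right ?_ h1
    rw [← hKcard]; exact Nat.card_pos
  have hKcop : Nat.Coprime (Nat.card K) K.index := by
    rw [hKcard, hKidx]; exact hHall.symm
  refine ⟨K.map C.subtype, ?_, ?_, ?_, ?_⟩
  · rintro _ ⟨k, hk, rfl⟩
    exact hCa k k.2
  · rintro g hga _ ⟨k, hk, rfl⟩
    have hmem : g * (k : G) * g⁻¹ ∈ C := by
      rw [Subgroup.mem_centralizer_iff]
      intro e he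
      have h1 := h.conj_mem_E' he (g := g⁻¹) (by rw [inv_smul_eq_iff, hga])
      have h2 := Subgroup.mem_centralizer_iff.mp k.2 _ h1
      calc e * (g * (k : G) * g⁻¹) = g * (g⁻¹ * e * g⁻¹⁻¹ * k) * g⁻¹ := by group
        _ = g * (k * (g⁻¹ * e * g⁻¹⁻¹)) * g⁻¹ := by rw [h2]
        _ = g * k * g⁻¹ * e := by group
    refine ⟨⟨_, hmem⟩, Cfsg.Agent.StrongEmb.TransferSolv.mem_of_orderOf_dvd K hKcop ?_, rfl⟩
    have h1 : orderOf (⟨g * (k : G) * g⁻¹, hmem⟩ : C) = orderOf k := by
      rw [← Subgroup.orderOf_coe, ← Subgroup.orderOf_coe k]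
      exact orderOf_injective (MulAut.conj g).toMonoidHom (MulAut.conj g).injective (k : G)
    rw [h1]
    exact Subgroup.orderOf_dvd_natCard K hk
  · intro x z hx hz
    obtain ⟨k₁, hk₁, h₁⟩ := hKtrans ⟨x, hx⟩
    obtain ⟨k₂, hk₂, h₂⟩ := hKtrans ⟨z, hz⟩
    refine ⟨((k₂ * k₁⁻¹ : C) : G), ⟨_, mul_mem hk₂ (inv_mem hk₁), rfl⟩, ?_⟩
    have h3 : (k₂ * k₁⁻¹) • (⟨x, hx⟩ : Ω') = ⟨z, hz⟩ := by
      rw [mul_smul, ← h₁, inv_smul_smul, h₂]
    exact congrArg Subtype.val h3
  · rintro x hx _ ⟨q, hq, rfl⟩ hqx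
    obtain ⟨k, hk, hkb⟩ := hKtrans ⟨x, hx⟩
    have h1 : k⁻¹ * q * k ∈ K ⊓ stabilizer C b' := by
      rw [Subgroup.mem_inf]
      refine ⟨mul_mem (mul_mem (inv_mem hk) hq) hk, ?_⟩
      rw [mem_stabilizer_iff, mul_smul, mul_smul, hkb, inv_smul_eq_iff, hkb]
      exact Subtype.ext hqx
    rw [hKbot, Subgroup.mem_bot] at h1
    have h2 : q = 1 := by
      have : q = k * (k⁻¹ * q * k) * k⁻¹ := by group
      rw [this, h1]; group
    rw [h2]; rfl

end

end Cfsg.Agent.BenderW3.CaseY
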