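import Mathlib
import Cfsg.Agent.BenderW3.CaseY
import Cfsg.Agent.StrongEmb.ClP

/-!
# `ClP` in a `Frame`

In a 2-transitive group in which every involution fixes exactly one point and the involutions
fixing a point commute, two of three fixed points of a `p`-group are interchanged by an involution
centralising it.
-/

set_option autoImplicit false

namespace Cfsg.Agent.BenderW3.ClPOfFrame

open Cfsg MulAction Cfsg.Agent.StrongEmb.Basic Cfsg.Agent.TwoFusion.StronglyEmbeddedBasic
open Cfsg.Agent.SignalizersComponents.BenderCount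
open Cfsg.Agent.SignalizersComponents.BenderPerfect
open Cfsg.Agent.Blocks.SylowIn
open Cfsg.Agent.TwoFusion.BenderTwoTrans
open Cfsg.Agent.BenderW3.Setup Cfsg.Agent.BenderW3.CaseY
open Cfsg.Agent.StrongEmb.ClP

variable {G Ω : Type*} [Group G] [MulAction G Ω] [Finite G]

omit [Finite G] in
/-- Points of the coset space fixed by `P` give points of `Ω` fixed by `P`. -/
theorem fix_of_mem_fixp {a : Ω} {P : Subgroup G} {x : G ⧸ stabilizer G a}
    (hx : x ∈ fixp (stabilizer G a) P) {g : G} (hg : g ∈ P) :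
    g • ofQuotientStabilizer G a x = ofQuotientStabilizer G a x := by
  rw [← ofQuotientStabilizer_smul, hx g hg]

omit [Finite G] in
/-- In a frame, an involution fixing a point and normalising a group with this and another fixed
point centralises the group. -/
theorem mem_centralizer (h : Frame G Ω) {a : Ω} {U : Subgroup G} {t : G} (ht : orderOf t = 2)
    (htU : ∀ u ∈ U, t * u * t⁻¹ ∈ U) {w y : G ⧸ stabilizer G a}
    (hw : w ∈ fixp (stabilizer G a) U) (hy : y ∈ fixp (stabilizer G a) U) (hwy : w ≠ y)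
    (htw : t • w = w) : t ∈ Subgroup.centralizer (U : Set G) := by
  have hne : ofQuotientStabilizer G a w ≠ ofQuotientStabilizer G a y := fun hc =>
    hwy (injective_ofQuotientStabilizer G a hc)
  have htw' : t • ofQuotientStabilizer G a w = ofQuotientStabilizer G a w := by
    rw [← ofQuotientStabilizer_smul, htw]
  rw [Subgroup.mem_centralizer_iff]
  intro u hu
  exact (h.commute_of_normalizes hne (h.mem_E_of_orderOf ht htw')
    (fun p hp => fix_of_mem_fixp hw hp) (fun p hp => fix_of_mem_fixp hy hp) htU hu).symm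

/-- In a frame `Star H p` holds for every prime `p` dividing the number of involutions of a point
stabilizer. -/
theorem star_of_frame (h : Frame G Ω) {a : Ω} (hH : IsStronglyEmbedded (stabilizer G a)) {p : ℕ}
    [hp : Fact p.Prime] (hdvd : p ∣ mm (stabilizer G a)) : Star (stabilizer G a) p := by
  intro x y hxy P hP t ht htx htP
  have hP' := exists_sylow_map_eq_iff.mp hP
  have hx : x ∈ fixp (stabilizer G a) P := fun d hd => (mem_stab2.mp (hP'.1 hd)).1
  have hy : y ∈ fixp (stabilizer G a) P := fun d hd => (mem_stab2.mp (hP'.1 hd)).2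
  have htc := mem_centralizer h ht htP hx hy hxy htx
  have h1 := card_stab2_fix hH hxy.symm (v := t) ⟨ht, htx⟩
  rw [stab2_comm] at h1
  have hle : P ≤ stab2 x y ⊓ Subgroup.centralizer ({t} : Set G) := by
    intro u hu
    refine ⟨hP'.1 hu, Subgroup.mem_centralizer_iff.mpr ?_⟩
    intro k hk
    rw [Set.mem_singleton_iff] at hk
    rw [hk]
    exact (Subgroup.mem_centralizer_iff.mp htc u hu).symm
  have h2 : Nat.card P ∣ Nat.card ↥(stab2 x y ⊓ Subgroup.centralizer ({t} : Set G)) :=
    Subgroup.card_dvd_of_le hle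
  rw [card_of_sylow_map_eq hP] at h2
  have h3 : p ^ ((Nat.card (stab2 x y)).factorization p + 1) ∣ Nat.card (stab2 x y) := by
    rw [pow_succ', ← h1]
    refine Nat.mul_dvd_mul hdvd ?_
    rw [h1]
    exact h2
  exact Nat.pow_succ_factorization_not_dvd Nat.card_pos.ne' hp.out h3

/-- **Cl** in a frame. -/
theorem clP_of_frame (h : Frame G Ω) {s : G} (hs : orderOf s = 2) : ClP G Ω := by
  intro p P hp hP _ x y z hxy hxz hyz hPx hPy hPz
  have hfp : Fact p.Prime := ⟨hp⟩
  -- transitivity
  have htr : ∀ c : Ω, ∃ g : G, g • x = c := by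
    intro c
    by_cases hcy : c = y
    · obtain ⟨g, -, hg⟩ := h.trans z x c hxz (hcy ▸ hyz)
      exact ⟨g, hg⟩
    · obtain ⟨g, -, hg⟩ := h.trans y x c hxy hcy
      exact ⟨g, hg⟩
  -- an involution fixing `x`
  obtain ⟨c, hc⟩ := h.uniq.exists hs
  obtain ⟨g, hg⟩ := htr c
  obtain ⟨g', hg'⟩ := htr y
  have hH : IsStronglyEmbedded (stabilizer G x) := by
    refine h.uniq.stronglyEmbedded (t := g⁻¹ * s * g) (g := g') ?_ ?_ ?_
    · rw [show g⁻¹ * s * g = g⁻¹ * s * g⁻¹⁻¹ by group, orderOf_conj, hs]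
    · rw [mul_smul, mul_smul, hg, hc, inv_smul_eq_iff, hg]
    · rw [hg']; exact hxy.symm
  have hlift : ∀ c : Ω, (∀ u ∈ P, u • c = c) →
      ∃ c' ∈ fixp (stabilizer G x) P, ofQuotientStabilizer G x c' = c := by
    intro c hc
    obtain ⟨k, hk⟩ := htr c
    refine ⟨(k : G ⧸ stabilizer G x), fun u hu => ?_, hk⟩
    apply injective_ofQuotientStabilizer G x
    rw [ofQuotientStabilizer_smul]
    change u • (k • x) = k • x
    rw [hk]
    exact hc u hu
  obtain ⟨x', hx', hxx'⟩ := hlift x hPx
  obtain ⟨y', hy', hyy'⟩ := hlift y hPy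
  obtain ⟨z', hz', hzz'⟩ := hlift z hPz
  have hxy' : x' ≠ y' := by
    rintro rfl; exact hxy (hxx'.symm.trans hyy')
  have hyz' : y' ≠ z' := by
    rintro rfl; exact hyz (hyy'.symm.trans hzz')
  have hxz' : x' ≠ z' := by
    rintro rfl; exact hxz (hxx'.symm.trans hzz')
  have h3 : Three (stabilizer G x) P := ⟨x', hx', y', hy', z', hz', hxy', hyz', hxz'⟩
  have hcl : Cl (stabilizer G x) P := by
    by_cases hdvd : p ∣ mm (stabilizer G x)
    · refine cl_of_good hH (star_of_frame h hH hdvd) ?_ hP
      intro U _ hU3 t ht htU w hw htw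
      obtain ⟨b, hb, -, -, hbw, -⟩ := hU3.exists_two w
      exact mem_centralizer h ht (forall_of_mem_normalizer htU) hw hb hbw.symm htw
    · exact cl_of_not_dvd hH hdvd hP
  obtain ⟨v, hv, hv2, hvx⟩ := hcl h3 x' hx' y' hy' hxy'
  refine ⟨v, hv, hv2, ?_⟩
  rw [← hxx', ← hyy', ← hvx, ofQuotientStabilizer_smul]

end Cfsg.Agent.BenderW3.ClPOfFrame
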