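import Cfsg.Agent.BenderW3.Frame
import Cfsg.Agent.OddOrderCharacters.ClassSum

/-!
# Orders and indices in the frame
-/

set_option autoImplicit false

open Cfsg

namespace Cfsg.Agent.BenderW3.Frame

universe v

variable {G : Type v} [Group G] [Finite G] {p : ℕ} {H Z K P : Subgroup G} {s u : G}
variable (F : Frame p H Z K P s u)
include F

omit [Finite G] in
theorem pow_ge : 8 ≤ 2 ^ p := by
  calc 8 = 2 ^ 3 := by norm_num
    _ ≤ 2 ^ p := Nat.pow_le_pow_right (by norm_num) F.hp3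

theorem card_Zne : Nat.card {z : G // z ∈ Z ∧ z ≠ 1} = 2 ^ p - 1 := by
  classical
  have := Fintype.ofFinite G
  have h1 := F.cardZ
  have h2 : Nat.card {z : G // z ∈ Z ∧ z ≠ 1} = Nat.card {z : Z // z ≠ 1} := by
    refine Nat.card_congr
      { toFun := fun z => ⟨⟨z.1, z.2.1⟩, fun h => z.2.2 (congrArg Subtype.val h)⟩
        invFun := fun z => ⟨z.1.1, z.1.2, fun h => z.2 (Subtype.ext h)⟩
        left_inv := fun z => rfl
        right_inv := fun z => rfl }
  rw [h2, Nat.card_eq_fintype_card, Fintype.card_subtype_compl, ← Nat.card_eq_fintype_card, h1]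
  simp

theorem card_K : Nat.card K = 2 ^ p - 1 := by
  rw [← F.card_Zne]
  refine Nat.card_congr (Equiv.ofBijective
    (fun k : K => (⟨k * s * (k : G)⁻¹, F.Znor _ (F.KH k.2) _ F.hs, fun h => F.hs1 (by
      calc s = (k : G)⁻¹ * (k * s * (k : G)⁻¹) * k := by group
        _ = 1 := by rw [h]; group)⟩ : {z : G // z ∈ Z ∧ z ≠ 1})) ⟨?_, ?_⟩)
  · intro k l hkl
    have h1 : (k : G) * s * (k : G)⁻¹ = l * s * (l : G)⁻¹ := congrArg Subtype.val hkl
    have h2 : (l : G)⁻¹ * k = 1 := by
      apply F.Kfree _ (mul_mem (inv_mem l.2) k.2)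
      calc (l : G)⁻¹ * k * s = (l : G)⁻¹ * (k * s * (k : G)⁻¹) * k := by group
        _ = (l : G)⁻¹ * (l * s * (l : G)⁻¹) * k := by rw [h1]
        _ = _ := by group
    rw [inv_mul_eq_one] at h2
    exact Subtype.ext h2.symm
  · rintro ⟨z, hz, hz1⟩
    obtain ⟨k, hk, hkz⟩ := F.Ktrans z hz hz1
    exact ⟨⟨k, hk⟩, Subtype.ext hkz⟩

theorem cent_s_le : Subgroup.centralizer ({s} : Set G) ≤ H := by
  intro c hc
  rw [Subgroup.mem_centralizer_singleton_iff] at hc
  apply F.cent_le F.hs F.hs1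
  rw [hc, mul_inv_cancel_right]; exact F.sH

theorem card_H : Nat.card H = Nat.card K * Nat.card (Subgroup.centralizer ({s} : Set G)) := by
  rw [← Nat.card_prod]
  symm
  refine Nat.card_congr (Equiv.ofBijective
    (fun q : K × Subgroup.centralizer ({s} : Set G) =>
      (⟨q.1 * q.2, mul_mem (F.KH q.1.2) (F.cent_s_le q.2.2)⟩ : H)) ⟨?_, ?_⟩)
  · rintro ⟨k, c⟩ ⟨l, d⟩ h
    have h1 : (k : G) * c = l * d := congrArg Subtype.val h
    have h2 : (l : G)⁻¹ * k = d * (c : G)⁻¹ := by
      rw [inv_mul_eq_iff_eq_mul, ← mul_assoc, ← h1]; group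
    have h3 : (l : G)⁻¹ * k = 1 := by
      apply F.Kfree _ (mul_mem (inv_mem l.2) k.2)
      have h4 : (d : G) * (c : G)⁻¹ ∈ Subgroup.centralizer ({s} : Set G) :=
        mul_mem d.2 (inv_mem c.2)
      rw [← h2, Subgroup.mem_centralizer_singleton_iff] at h4
      exact h4
    have h5 : (l : G) = k := inv_mul_eq_one.mp h3
    have h6 : (c : G) = d := by
      rw [h5] at h1
      exact mul_left_cancel h1
    exact Prod.ext (Subtype.ext h5.symm) (Subtype.ext h6)
  · rintro ⟨h, hh⟩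
    have h1 : h * s * h⁻¹ ∈ Z := F.Znor h hh s F.hs
    have h2 : h * s * h⁻¹ ≠ 1 := fun h3 => F.hs1 (by
      calc s = h⁻¹ * (h * s * h⁻¹) * h := by group
        _ = 1 := by rw [h3]; group)
    obtain ⟨k, hk, hks⟩ := F.Ktrans _ h1 h2
    refine ⟨(⟨k, hk⟩, ⟨k⁻¹ * h, ?_⟩), Subtype.ext (by simp)⟩
    rw [Subgroup.mem_centralizer_singleton_iff]
    calc k⁻¹ * h * s = k⁻¹ * (h * s * h⁻¹) * h := by group
      _ = k⁻¹ * (k * s * k⁻¹) * h := by rw [hks]
      _ = _ := by group

theorem index_cent : (Subgroup.centralizer ({s} : Set G)).index = (2 ^ p - 1) * H.index := by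
  have h1 := (Subgroup.centralizer ({s} : Set G)).card_mul_index
  have h2 := H.card_mul_index
  rw [F.card_H, F.card_K] at h2
  have h3 : 0 < Nat.card (Subgroup.centralizer ({s} : Set G)) := Nat.card_pos
  refine Nat.eq_of_mul_eq_mul_left h3 ?_
  rw [h1, ← h2]
  ring

/-- `|G : H| ≡ 2` modulo `2 ^ p - 1`. -/
theorem index_mod : ((2 : ℤ) ^ p - 1) ∣ (H.index : ℤ) - 2 := by
  classical
  have : Fintype (G ⧸ H) := Fintype.ofFinite _
  have hne : ((1 : G) : G ⧸ H) ≠ (u : G ⧸ H) := by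
    rw [Ne, QuotientGroup.eq, inv_one, one_mul]
    exact F.huH
  set U : Finset (G ⧸ H) := Finset.univ \ {((1 : G) : G ⧸ H), (u : G ⧸ H)} with hU
  have hUc : U.card + 2 = H.index := by
    rw [hU, Finset.card_sdiff_of_subset (Finset.subset_univ _), Finset.card_pair hne,
      Finset.card_univ, ← Nat.card_eq_fintype_card]
    have h1 : 2 ≤ Nat.card (G ⧸ H) := by
      rw [Nat.card_eq_fintype_card, ← Finset.card_univ, ← Finset.card_pair hne]
      exact Finset.card_le_card (Finset.subset_univ _)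
    rw [Subgroup.index]
    omega
  have hmem : ∀ g : G, (g : G ⧸ H) ∈ U ↔ (g ∉ H ∧ u * g ∉ H) := by
    intro g
    rw [hU, Finset.mem_sdiff, Finset.mem_insert, Finset.mem_singleton, not_or]
    have e1 : ((g : G ⧸ H) = ((1 : G) : G ⧸ H)) ↔ g ∈ H := by
      rw [eq_comm, QuotientGroup.eq, inv_one, one_mul]
    have e2 : ((g : G ⧸ H) = (u : G ⧸ H)) ↔ u * g ∈ H := by
      rw [eq_comm, QuotientGroup.eq, F.uinv]
    rw [e1, e2]
    simp
  have h1 := OddOrderCharacters.ClassSum.card_dvd_of_free (H := K) (X := G ⧸ H) U ?_ ?_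
  · rw [F.card_K] at h1
    have h2 : (((2 ^ p - 1 : ℕ)) : ℤ) ∣ (U.card : ℤ) := by exact_mod_cast h1
    have h3 := F.pow_ge
    rw [Nat.cast_sub (by omega)] at h2
    push_cast at h2
    have h4 : (H.index : ℤ) - 2 = U.card := by rw [← hUc]; push_cast; ring
    rw [h4]
    exact h2
  · intro k x hx
    induction x using QuotientGroup.induction_on with | H g => ?_
    have e : k • (g : G ⧸ H) = ((k * g : G) : G ⧸ H) := rfl
    rw [e, hmem]
    rw [hmem] at hx
    constructor
    · intro h2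
      apply hx.1
      have := mul_mem (inv_mem (F.KH k.2)) h2
      rwa [inv_mul_cancel_left] at this
    · intro h2
      apply hx.2
      have h3 : u * (k : G) = (k : G)⁻¹ * u := by
        rw [← F.Kinv k k.2]; group
      rw [← mul_assoc, h3] at h2
      have := mul_mem (F.KH k.2) h2
      have e2 : (k : G) * ((k : G)⁻¹ * u * g) = u * g := by group
      rwa [e2] at this
  · intro k x hx hkx
    induction x using QuotientGroup.induction_on with | H g => ?_
    rw [hmem] at hx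
    have e : k • (g : G ⧸ H) = ((k * g : G) : G ⧸ H) := rfl
    rw [e, eq_comm, QuotientGroup.eq] at hkx
    by_contra hk1
    have h2 := F.Kfix k k.2 (fun h => hk1 (Subtype.ext h)) g (by rw [mul_assoc]; exact hkx)
    rcases h2 with h2 | h2
    · exact hx.1 h2
    · exact hx.2 h2

theorem exists_K_ne : ∃ k ∈ K, k ≠ 1 := by
  by_contra h
  push Not at h
  have h1 : K = ⊥ := by
    rw [eq_bot_iff]
    intro k hk
    exact h k hk
  have h2 := F.card_K
  rw [h1, Subgroup.card_bot] at h2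
  have := F.pow_ge
  omega

omit [Finite G] in
theorem u_conj_K {k : G} (hk : k ∈ K) : u * k * u⁻¹ ∈ K := by
  rw [F.Kinv k hk]; exact inv_mem hk

omit [Finite G] in
theorem u_mem_normalizer : u ∈ Subgroup.normalizer (K : Set G) := by
  rw [Subgroup.mem_normalizer_iff]
  intro k
  constructor
  · exact F.u_conj_K
  · intro h
    have h1 := F.u_conj_K h
    have e : u * (u * k * u⁻¹) * u⁻¹ = (u * u) * k * (u * u)⁻¹ := by group
    rw [e, F.uu] at h1
    simpa using h1

omit [Finite G] in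
theorem P_mem_normalizer {y : G} (hy : y ∈ P) : y ∈ Subgroup.normalizer (K : Set G) := by
  rw [Subgroup.mem_normalizer_iff]
  intro k
  constructor
  · exact F.Knor y (F.PH hy) (F.PuH y hy) k
  · intro h
    have h1 := F.Knor y⁻¹ (inv_mem (F.PH hy)) (F.PuH _ (inv_mem hy)) _ h
    have e : y⁻¹ * (y * k * y⁻¹) * y⁻¹⁻¹ = k := by group
    rwa [e] at h1

/-- The normalizer of `K` in `H` is `D`. -/
theorem normalizer_H {g : G} (hg : g ∈ Subgroup.normalizer (K : Set G)) (hgH : g ∈ H) :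
    u * g * u⁻¹ ∈ H := by
  obtain ⟨k, hk, hk1⟩ := F.exists_K_ne
  have h1 : g⁻¹ * k * g ∈ K := by
    have h2 := inv_mem hg
    rw [Subgroup.mem_normalizer_iff] at h2
    have := (h2 k).mp hk
    rwa [inv_inv] at this
  have h3 : (g * u)⁻¹ * k * (g * u) ∈ H := by
    have h4 := F.KH (F.u_conj_K h1)
    have e : (g * u)⁻¹ * k * (g * u) = u⁻¹ * (g⁻¹ * k * g) * u := by group
    rw [e, F.uinv]
    rwa [F.uinv] at h4
  rcases F.Kfix k hk hk1 _ h3 with h5 | h5
  · exfalso
    apply F.huH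
    have := mul_mem (inv_mem hgH) h5
    rwa [inv_mul_cancel_left] at this
  · rw [F.uinv, mul_assoc]; exact h5

theorem mem_H_of_normalizer {g : G} (hg : g ∈ Subgroup.normalizer (K : Set G)) :
    g ∈ H ∨ u * g ∈ H := by
  obtain ⟨k, hk, hk1⟩ := F.exists_K_ne
  have h1 : g⁻¹ * k * g ∈ K := by
    have h2 := inv_mem hg
    rw [Subgroup.mem_normalizer_iff] at h2
    have := (h2 k).mp hk
    rwa [inv_inv] at this
  exact F.Kfix k hk hk1 g (F.KH h1)

/-- conjugations coincide on `K` iff the quotient is in `K`. -/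
theorem conj_eq_iff {a b : G} : (∀ k ∈ K, a * k * a⁻¹ = b * k * b⁻¹) ↔ b⁻¹ * a ∈ K := by
  obtain ⟨k0, hk0, hk01⟩ := F.exists_K_ne
  constructor
  · intro h
    have h1 : b⁻¹ * a ∈ Subgroup.centralizer ({k0} : Set G) := by
      rw [Subgroup.mem_centralizer_singleton_iff]
      calc b⁻¹ * a * k0 = b⁻¹ * (a * k0 * a⁻¹) * a := by group
        _ = b⁻¹ * (b * k0 * b⁻¹) * a := by rw [h k0 hk0]
        _ = _ := by group
    rwa [F.KC k0 hk0 hk01] at h1
  · intro h k hk
    have h1 := F.Kcomm h hk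
    calc a * k * a⁻¹ = b * ((b⁻¹ * a) * k) * a⁻¹ := by group
      _ = b * (k * (b⁻¹ * a)) * a⁻¹ := by rw [h1]
      _ = _ := by group

theorem card_autz : Nat.card (TIGram.autz K) = 2 * p := by
  have h0 : Nat.card (Bool × P) = 2 * p := by
    rw [Nat.card_prod, F.cardP]
    simp
  rw [← h0]
  symm
  have hN : ∀ q : Bool × P, (if q.1 then u else 1) * (q.2 : G) ∈
      Subgroup.normalizer (K : Set G) := by
    rintro ⟨e, y⟩
    refine mul_mem ?_ (F.P_mem_normalizer y.2)
    cases e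
    · exact one_mem _
    · exact F.u_mem_normalizer
  refine Nat.card_congr (Equiv.ofBijective
    (fun q : Bool × P => (⟨K.normalizerMonoidHom ⟨_, hN q⟩, ⟨_, rfl⟩⟩ : TIGram.autz K))
    ⟨?_, ?_⟩)
  · rintro ⟨e, y⟩ ⟨e', y'⟩ h
    have h1 : ∀ k ∈ K, ((if e then u else 1) * (y : G)) * k * ((if e then u else 1) * (y : G))⁻¹ =
        ((if e' then u else 1) * (y' : G)) * k * ((if e' then u else 1) * (y' : G))⁻¹ := by
      intro k hk
      have h2 := DFunLike.congr_fun (congrArg Subtype.val h) (⟨k, hk⟩ : K)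
      exact congrArg Subtype.val h2
    rw [F.conj_eq_iff] at h1
    have hyH := F.PH y.2
    have hyH' := F.PH y'.2
    have huK : ∀ a b : G, a ∈ H → b ∈ H → a * u * b ∈ K → False := by
      intro a b ha hb hab
      apply F.huH
      have := mul_mem (mul_mem (inv_mem ha) (F.KH hab)) (inv_mem hb)
      have e : a⁻¹ * (a * u * b) * b⁻¹ = u := by group
      rwa [e] at this
    have hyy : (y' : G)⁻¹ * y ∈ K → y = y' := by
      intro h2
      have h3 : (y' : G)⁻¹ * y = 1 := by
        apply F.Kfree _ h2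
        have h4 := F.Ps _ (mul_mem (inv_mem y'.2) y.2)
        exact h4
      rw [inv_mul_eq_one] at h3
      exact Subtype.ext h3.symm
    cases e <;> cases e' <;> simp only [if_true, if_false, Bool.false_eq_true, one_mul] at h1
    · rw [hyy h1]
    · exfalso
      rw [mul_inv_rev, F.uinv] at h1
      exact huK _ _ (inv_mem hyH') hyH h1
    · exfalso
      rw [← mul_assoc] at h1
      exact huK _ _ (inv_mem hyH') hyH h1
    · have e : (u * (y' : G))⁻¹ * (u * y) = (y' : G)⁻¹ * y := by group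
      rw [e] at h1
      rw [hyy h1]
  · rintro ⟨t, ht⟩
    obtain ⟨g, hg, hgt⟩ := (TIGram.mem_autz K t).mp ht
    have key : ∀ g' ∈ Subgroup.normalizer (K : Set G), g' ∈ H → ∃ k ∈ K, ∃ y ∈ P, g' = k * y :=
      fun g' hg' hgH => F.dec g' hgH (F.normalizer_H hg' hgH)
    have fin : ∀ q : Bool × P, ((if q.1 then u else 1) * (q.2 : G))⁻¹ * g ∈ K →
        (⟨K.normalizerMonoidHom ⟨_, hN q⟩, ⟨_, rfl⟩⟩ : TIGram.autz K) = ⟨t, ht⟩ := by
      intro q hq
      apply Subtype.ext
      ext k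
      rw [hgt k]
      exact (F.conj_eq_iff.mpr hq k k.2).symm
    rcases F.mem_H_of_normalizer hg with h | h
    · obtain ⟨k, hk, y, hy, rfl⟩ := key g hg h
      refine ⟨(false, ⟨y, hy⟩), fin _ ?_⟩
      simp only [Bool.false_eq_true, if_false, one_mul]
      have := (Subgroup.mem_normalizer_iff.mp (F.P_mem_normalizer (inv_mem hy)) k).mp hk
      rw [inv_inv] at this
      rwa [← mul_assoc]
    · obtain ⟨k, hk, y, hy, hky⟩ := key (u * g) (mul_mem F.u_mem_normalizer hg) h
      refine ⟨(true, ⟨y, hy⟩), fin _ ?_⟩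
      simp only [if_true]
      have h1 : g = u * (k * y) := by rw [← hky, ← mul_assoc, F.uu, one_mul]
      rw [h1]
      have := (Subgroup.mem_normalizer_iff.mp (F.P_mem_normalizer (inv_mem hy)) k).mp hk
      rw [inv_inv] at this
      have e : (u * y)⁻¹ * (u * (k * y)) = y⁻¹ * k * y := by group
      rw [e]
      exact this

end Cfsg.Agent.BenderW3.Frame
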