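import Cfsg.Agent.BenderW3.Numerics
import Cfsg.Agent.TwoFusion.StronglyEmbeddedBasic

/-!
# The frame for the character-theoretic part

`H` is strongly embedded in `G`, `G` is two-transitive on `G / H`, the involutions of `H` form with
`1` an elementary abelian normal subgroup `Z` of order `2 ^ p`, and the two-point stabilizer
`D = H ∩ H ^ u` is `K P` with `K` regular on `Z - 1`, inverted by `u`, self-centralizing, and `P` of
prime order `p` centralizing `s ∈ Z`.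
-/

set_option autoImplicit false

open Cfsg Cfsg.Agent.TwoFusion.StronglyEmbeddedBasic

namespace Cfsg.Agent.BenderW3

universe v

/-- The frame. -/
structure Frame {G : Type v} [Group G] (p : ℕ) (H Z K P : Subgroup G) (s u : G) : Prop where
  hp : p.Prime
  hp3 : 3 ≤ p
  se : IsStronglyEmbedded H
  twoTrans : ∀ g, g ∉ H → ∃ a ∈ H, ∃ b ∈ H, g = a * u * b
  hu : orderOf u = 2
  huH : u ∉ H
  ZH : Z ≤ H
  Znor : ∀ h ∈ H, ∀ z ∈ Z, h * z * h⁻¹ ∈ Z
  Zel : ∀ z ∈ Z, z * z = 1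
  Zinv : ∀ z ∈ H, orderOf z = 2 → z ∈ Z
  cardZ : Nat.card Z = 2 ^ p
  hs : s ∈ Z
  hs1 : s ≠ 1
  KH : K ≤ H
  Kinv : ∀ k ∈ K, u * k * u⁻¹ = k⁻¹
  Ktrans : ∀ z ∈ Z, z ≠ 1 → ∃ k ∈ K, k * s * k⁻¹ = z
  Kfree : ∀ k ∈ K, k * s = s * k → k = 1
  Kall : ∀ x ∈ H, u * x * u⁻¹ = x⁻¹ → x ∈ K
  KC : ∀ k ∈ K, k ≠ 1 → Subgroup.centralizer {k} = K
  Kfix : ∀ k ∈ K, k ≠ 1 → ∀ g, g⁻¹ * k * g ∈ H → g ∈ H ∨ u * g ∈ H
  Knor : ∀ d ∈ H, u * d * u⁻¹ ∈ H → ∀ k ∈ K, d * k * d⁻¹ ∈ K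
  PH : P ≤ H
  PuH : ∀ x ∈ P, u * x * u⁻¹ ∈ H
  cardP : Nat.card P = p
  Ps : ∀ x ∈ P, x * s = s * x
  dec : ∀ d ∈ H, u * d * u⁻¹ ∈ H → ∃ k ∈ K, ∃ y ∈ P, d = k * y

namespace Frame

variable {G : Type v} [Group G] {p : ℕ} {H Z K P : Subgroup G} {s u : G}

section basic

variable (F : Frame p H Z K P s u)
include F

theorem uu : u * u = 1 := mul_self_of_orderOf F.hu

theorem uinv : u⁻¹ = u := inv_eq_self_of_orderOf F.hu

theorem order_s : orderOf s = 2 := orderOf_eq_two_of_mul_self (F.Zel s F.hs) F.hs1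

theorem order_Z {z : G} (hz : z ∈ Z) (h1 : z ≠ 1) : orderOf z = 2 :=
  orderOf_eq_two_of_mul_self (F.Zel z hz) h1

theorem Zcomm {x y : G} (hx : x ∈ Z) (hy : y ∈ Z) : x * y = y * x := by
  have h := F.Zel _ (mul_mem hx hy)
  have h1 := F.Zel x hx
  have h2 := F.Zel y hy
  calc x * y = x * (x * y * (x * y)) * y := by rw [h]; group
    _ = (x * x) * (y * x) * (y * y) := by simp only [mul_assoc]
    _ = y * x := by rw [h1, h2, one_mul, mul_one]

/-- `C_G(s) ≤ H`. -/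
theorem cent_le [Finite G] {z : G} (hz : z ∈ Z) (h1 : z ≠ 1) {g : G} (hg : g * z * g⁻¹ ∈ H) :
    g ∈ H :=
  mem_of_conj_mem F.se (F.ZH hz) (F.order_Z hz h1) hg

theorem sH : s ∈ H := F.ZH F.hs

theorem Kcomm {x y : G} (hx : x ∈ K) (hy : y ∈ K) : x * y = y * x :=
  congrArg Subtype.val (TIGram.comm_of F.KC ⟨x, hx⟩ ⟨y, hy⟩)

/-- `K` is semiregular on `Z - 1`. -/
theorem Kfree' {z : G} (hz : z ∈ Z) (h1 : z ≠ 1) {k : G} (hk : k ∈ K) (h : k * z = z * k) :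
    k = 1 := by
  obtain ⟨l, hl, rfl⟩ := F.Ktrans z hz h1
  apply F.Kfree k hk
  have h2 := F.Kcomm hk hl
  have h3 : l⁻¹ * k = k * l⁻¹ := by
    rw [inv_mul_eq_iff_eq_mul, ← mul_assoc, ← h2]; group
  calc k * s = l⁻¹ * (l * k) * s := by group
    _ = l⁻¹ * (k * l) * s := by rw [h2]
    _ = l⁻¹ * (k * (l * s * l⁻¹)) * l := by group
    _ = l⁻¹ * ((l * s * l⁻¹) * k) * l := by rw [h]
    _ = s * (l⁻¹ * k) * l := by group
    _ = s * (k * l⁻¹) * l := by rw [h3]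
    _ = s * k := by group

theorem Ktrans' {y z : G} (hy : y ∈ Z) (hy1 : y ≠ 1) (hz : z ∈ Z) (h1 : z ≠ 1) :
    ∃ k ∈ K, k * y * k⁻¹ = z := by
  obtain ⟨k, hk, rfl⟩ := F.Ktrans z hz h1
  obtain ⟨l, hl, rfl⟩ := F.Ktrans y hy hy1
  refine ⟨k * l⁻¹, mul_mem hk (inv_mem hl), ?_⟩
  group

theorem conj_Z_iff {h z : G} (hh : h ∈ H) : h * z * h⁻¹ ∈ Z ↔ z ∈ Z := by
  constructor
  · intro h1
    have := F.Znor h⁻¹ (inv_mem hh) _ h1
    have e : h⁻¹ * (h * z * h⁻¹) * h⁻¹⁻¹ = z := by group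
    rwa [e] at this
  · exact F.Znor h hh z

/-- an involution in `u H` is in `u K`. -/
theorem mem_K_of_involution {x : G} (hx : x ∈ H) (h : (u * x) * (u * x) = 1) : x ∈ K := by
  apply F.Kall x hx
  rw [F.uinv]
  calc u * x * u = (u * x) * (u * x) * x⁻¹ := by group
    _ = x⁻¹ := by rw [h, one_mul]

theorem involution_of_mem_K {x : G} (hx : x ∈ K) : (u * x) * (u * x) = 1 := by
  have := F.Kinv x hx
  calc (u * x) * (u * x) = (u * x * u⁻¹) * (u * u) * x := by group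
    _ = 1 := by rw [this, F.uu]; group

theorem isConj_s_iff [Finite G] (i : G) : IsConj s i ↔ orderOf i = 2 := by
  constructor
  · intro h
    obtain ⟨c, rfl⟩ := isConj_iff.mp h
    rw [orderOf_conj, F.order_s]
  · intro h
    exact isConj_of_involutions F.se s i F.order_s h

theorem isConj_s_iff' [Finite G] (i : G) : IsConj s i ↔ i * i = 1 ∧ i ≠ 1 := by
  rw [F.isConj_s_iff]
  constructor
  · intro h
    refine ⟨mul_self_of_orderOf h, ?_⟩
    rintro rfl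
    rw [orderOf_one] at h
    omega
  · rintro ⟨h1, h2⟩
    exact orderOf_eq_two_of_mul_self h1 h2

/-- The product decomposition `(I - H) × C_G(s) → G - H`. -/
theorem existsUnique_dec [Finite G] {g : G} (hg : g ∉ H) :
    ∃! c : G, c ∈ Subgroup.centralizer {s} ∧ IsConj s (g * c⁻¹) := by
  obtain ⟨a, ha, b, hb, rfl⟩ := F.twoTrans g hg
  -- `s' = a⁻¹ s a`
  have hs' : a⁻¹ * s * a ∈ Z := by
    have := F.Znor a⁻¹ (inv_mem ha) s F.hs
    rwa [inv_inv] at this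
  have hs'1 : a⁻¹ * s * a ≠ 1 := by
    intro h
    apply F.hs1
    calc s = a * (a⁻¹ * s * a) * a⁻¹ := by group
      _ = 1 := by rw [h]; group
  have hba : b * a ∈ H := mul_mem hb ha
  have hz : (b * a) * (a⁻¹ * s * a) * (b * a)⁻¹ ∈ Z := F.Znor _ hba _ hs'
  have hz1 : (b * a) * (a⁻¹ * s * a) * (b * a)⁻¹ ≠ 1 := by
    intro h
    apply hs'1
    calc a⁻¹ * s * a = (b * a)⁻¹ * ((b * a) * (a⁻¹ * s * a) * (b * a)⁻¹) * (b * a) := by group
      _ = 1 := by rw [h]; group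
  have key : ∀ c : G, c ∈ Subgroup.centralizer {s} → c ∈ H →
      (IsConj s (a * u * b * c⁻¹) ↔ b * c⁻¹ * a ∈ K) := by
    intro c hc hcH
    have hx : b * c⁻¹ * a ∈ H := mul_mem (mul_mem hb (inv_mem hcH)) ha
    have e : a * u * b * c⁻¹ = a * (u * (b * c⁻¹ * a)) * a⁻¹ := by group
    rw [F.isConj_s_iff', e]
    constructor
    · rintro ⟨h1, -⟩
      apply F.mem_K_of_involution hx
      have e2 : a * (u * (b * c⁻¹ * a)) * a⁻¹ * (a * (u * (b * c⁻¹ * a)) * a⁻¹) =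
        a * ((u * (b * c⁻¹ * a)) * (u * (b * c⁻¹ * a))) * a⁻¹ := by group
      rw [e2] at h1
      calc _ = a⁻¹ * (a * ((u * (b * c⁻¹ * a)) * (u * (b * c⁻¹ * a))) * a⁻¹) * a := by group
        _ = 1 := by rw [h1]; group
    · intro h1
      have h2 := F.involution_of_mem_K h1
      constructor
      · have e2 : a * (u * (b * c⁻¹ * a)) * a⁻¹ * (a * (u * (b * c⁻¹ * a)) * a⁻¹) =
          a * ((u * (b * c⁻¹ * a)) * (u * (b * c⁻¹ * a))) * a⁻¹ := by group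
        rw [e2, h2]; group
      · intro h3
        apply F.huH
        have h4 : u * (b * c⁻¹ * a) = 1 := by
          calc _ = a⁻¹ * (a * (u * (b * c⁻¹ * a)) * a⁻¹) * a := by group
            _ = 1 := by rw [h3]; group
        rw [eq_inv_of_mul_eq_one_left h4]
        exact inv_mem hx
  obtain ⟨k, hk, hks⟩ := F.Ktrans' hs' hs'1 hz hz1
  refine ⟨a * k⁻¹ * b, ⟨?_, ?_⟩, ?_⟩
  · rw [Subgroup.mem_centralizer_singleton_iff]
    have h5 : k * (a⁻¹ * s * a) * k⁻¹ = b * s * b⁻¹ := by rw [hks]; group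
    calc a * k⁻¹ * b * s = a * k⁻¹ * (b * s * b⁻¹) * b := by group
      _ = a * k⁻¹ * (k * (a⁻¹ * s * a) * k⁻¹) * b := by rw [h5]
      _ = s * (a * k⁻¹ * b) := by group
  · have hcH : a * k⁻¹ * b ∈ H := mul_mem (mul_mem ha (inv_mem (F.KH hk))) hb
    have hcC : a * k⁻¹ * b ∈ Subgroup.centralizer {s} := by
      rw [Subgroup.mem_centralizer_singleton_iff]
      have h5 : k * (a⁻¹ * s * a) * k⁻¹ = b * s * b⁻¹ := by rw [hks]; group
      calc a * k⁻¹ * b * s = a * k⁻¹ * (b * s * b⁻¹) * b := by group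
        _ = a * k⁻¹ * (k * (a⁻¹ * s * a) * k⁻¹) * b := by rw [h5]
        _ = s * (a * k⁻¹ * b) := by group
    rw [key _ hcC hcH]
    have e : b * (a * k⁻¹ * b)⁻¹ * a = k := by group
    rw [e]; exact hk
  · rintro c ⟨hc, hci⟩
    rw [Subgroup.mem_centralizer_singleton_iff] at hc
    have hcH : c ∈ H := F.cent_le F.hs F.hs1 (by
      rw [hc, mul_inv_cancel_right]; exact F.sH)
    rw [key c (Subgroup.mem_centralizer_singleton_iff.mpr hc) hcH] at hci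
    -- both `k` and `b c⁻¹ a` move `s'` to the same element
    have hc' : c⁻¹ * s * c = s := by
      calc c⁻¹ * s * c = c⁻¹ * (s * c) := by group
        _ = c⁻¹ * (c * s) := by rw [hc]
        _ = s := by group
    have h6 : k⁻¹ * (b * c⁻¹ * a) = 1 := by
      apply F.Kfree' hs' hs'1 (mul_mem (inv_mem hk) hci)
      have h7 : (b * c⁻¹ * a) * (a⁻¹ * s * a) * (b * c⁻¹ * a)⁻¹ = b * s * b⁻¹ := by
        calc _ = b * (c⁻¹ * s * c) * b⁻¹ := by group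
          _ = _ := by rw [hc']
      have h8 : k * (a⁻¹ * s * a) * k⁻¹ = b * s * b⁻¹ := by rw [hks]; group
      calc k⁻¹ * (b * c⁻¹ * a) * (a⁻¹ * s * a)
          = k⁻¹ * ((b * c⁻¹ * a) * (a⁻¹ * s * a) * (b * c⁻¹ * a)⁻¹) * (b * c⁻¹ * a) := by group
        _ = k⁻¹ * (k * (a⁻¹ * s * a) * k⁻¹) * (b * c⁻¹ * a) := by rw [h7, h8]
        _ = a⁻¹ * s * a * (k⁻¹ * (b * c⁻¹ * a)) := by group
    have h9 : b * c⁻¹ * a = k := by
      rw [inv_mul_eq_one] at h6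
      exact h6.symm
    rw [← h9]
    group

end basic

end Frame

end Cfsg.Agent.BenderW3
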