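import Cfsg.Agent.BenderW3.Singer
import Cfsg.Agent.BenderW3.NoBad
import Cfsg.Agent.BenderW3.CaseY
import Cfsg.Agent.BenderW3.ClPOfFrame
import Cfsg.Agent.BenderW3.LocalOfIH
import Cfsg.Agent.StrongEmb.GenInv

/-!
# The normal complement (W3)

In a simple group with a frame, for which Bender's theorem holds for all smaller groups, `G_a` has
a normal subgroup regular on the points different from `a`.
-/

set_option autoImplicit false

universe u v

namespace Cfsg.Agent.BenderW3.Main

open MulAction Cfsg.Agent.StrongEmb.Basic Cfsg.Agent.TwoFusion.StronglyEmbeddedBasic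
open Cfsg.Agent.BenderW3.Setup Cfsg.Agent.BenderW3.CaseY Cfsg.Agent.BenderW3.NoBad
open Cfsg.Agent.StrongEmb.Frame Cfsg.Agent.StrongEmb.Split

variable {G : Type u} {Ω : Type v} [Group G] [MulAction G Ω]

/-- Two distinct points are interchanged by an involution. -/
theorem exists_swap_points [Finite G] (h : Setup.Frame G Ω) {a b : Ω} (hab : a ≠ b) {s : G}
    (hs : orderOf s = 2) (hsa : s • a = a) : ∃ w : G, orderOf w = 2 ∧ w • a = b := by
  have hsb : s • b ≠ b := fun e => hab (h.uniq.eq hs hsa e)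
  have hsb' : s • b ≠ a := by
    intro e
    apply hab
    have h1 : s • a = s • (s • b) := by rw [e]
    rw [← mul_smul, mul_self_of_orderOf hs, one_smul, hsa] at h1
    exact h1
  obtain ⟨g, -, hg⟩ := h.trans (s • b) a b hsb'.symm hsb.symm
  have hr : orderOf (g * s * g⁻¹) = 2 := by rw [orderOf_conj, hs]
  have hrb : (g * s * g⁻¹) • b = b := by
    rw [← hg, mul_smul, mul_smul, inv_smul_smul, hsa]
  obtain ⟨j, -, hj, -, -, hja, -⟩ := h.uniq.exists_swap hs hr hab hsa hrb
  exact ⟨j, hj, hja⟩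

theorem regularNormal_of_exists {a : Ω}
    (h : ∃ Q : Subgroup G, (∀ q ∈ Q, q • a = a) ∧
      (∀ g : G, g • a = a → ∀ q ∈ Q, g * q * g⁻¹ ∈ Q) ∧
      (∀ x z : Ω, x ≠ a → z ≠ a → ∃ q ∈ Q, q • x = z) ∧
      (∀ x : Ω, x ≠ a → ∀ q ∈ Q, q • x = x → q = 1)) : RegularNormal G a := by
  obtain ⟨Q, h1, h2, h3, h4⟩ := h
  refine ⟨Q, h1, h2, fun x y hx hy => ?_⟩
  obtain ⟨q, hq, hqx⟩ := h3 x y hx hy
  refine ⟨q, ⟨hq, hqx⟩, ?_⟩
  rintro r ⟨hr, hrx⟩
  have h5 := h4 x hx (q⁻¹ * r) (mul_mem (inv_mem hq) hr)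
    (by rw [mul_smul, hrx, ← hqx, inv_smul_smul])
  exact (inv_mul_eq_one.mp h5).symm

/-- Among three points with `P` there is one different from two given points. -/
theorem exists_third {X : Type*} {a b e : X} (hab : a ≠ b) (hae : a ≠ e) (hbe : b ≠ e)
    {P : X → Prop} (ha : P a) (hb : P b) (he : P e) (c d : X) : ∃ f, c ≠ f ∧ d ≠ f ∧ P f := by
  by_contra hcon
  push Not at hcon
  have h1 : ∀ f, P f → f = c ∨ f = d := by
    intro f hf
    by_contra h2
    push Not at h2
    exact hcon f h2.1.symm h2.2.symm hf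
  rcases h1 a ha with h2 | h2
  · rcases h1 b hb with h3 | h3
    · exact hab (h2.trans h3.symm)
    · rcases h1 e he with h4 | h4
      · exact hae (h2.trans h4.symm)
      · exact hbe (h3.trans h4.symm)
  · rcases h1 b hb with h3 | h3
    · rcases h1 e he with h4 | h4
      · exact hbe (h3.trans h4.symm)
      · exact hae (h2.trans h4.symm)
    · exact hab (h2.trans h3.symm)

/-- The statement of the last case (`L7`). -/
def LastCase (G : Type u) (Ω : Type v) [Group G] [MulAction G Ω] : Prop :=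
  ∀ (a b : Ω) (w t x : G) (p : ℕ), a ≠ b → orderOf w = 2 → w • a = b →
    (∀ d : G, d • a = a → d • b = b → (∀ e ∈ E G a, d * e = e * d) → d = 1) →
    t ∈ E G a → t ≠ 1 → x • a = a → x • b = b → x * t = t * x →
    (∀ e ∈ E G a, x * e = e * x → e = 1 ∨ e = t) → p.Prime → orderOf x = p → RegularNormal G a

/-- **W3**. -/
theorem regularNormal [Finite G] [Finite Ω] [IsSimpleGroup G]
    (hsolv : ∀ K : Subgroup G, Odd (Nat.card K) → Group.IsSolvable K)
    (hIH : ∀ (K : Type u) [Group K] [Finite K], Nat.card K < Nat.card G → BenderHolds K)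
    (h : Setup.Frame G Ω) (hlast : LastCase G Ω) {a b : Ω} (hab : a ≠ b) {s t : G}
    (hs : orderOf s = 2) (hsa : s • a = a) (ht : orderOf t = 2) (hta : t • a = a) (hst : s ≠ t) :
    RegularNormal G a := by
  have hcl : ClP G Ω := ClPOfFrame.clP_of_frame h hs
  have hloc : LocalC G Ω := LocalOfIH.localC hIH h
  by_cases hY : ∀ d : G, d • a = a → d • b = b → (∀ e ∈ E G a, d * e = e * d) → d = 1
  swap
  · push Not at hY
    obtain ⟨y, hya, hyb, hyE, hy1⟩ := hY
    exact regularNormal_of_exists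
      (CaseY.exists_regular h hloc hcl hab hs hsa ht hta hst hsolv hy1 hyb hyE)
  obtain ⟨w, hw, hwa⟩ := exists_swap_points h hab hs hsa
  by_cases hbad : ∀ y : G, (orderOf y).Prime → y • a = a → y • b = b → ∀ s : G, orderOf s = 2 →
      s • a = a → Commute s y → ∃ t : G, orderOf t = 2 ∧ t • a = a ∧ t ≠ s ∧ Commute t y
  swap
  · push Not at hbad
    obtain ⟨y, hy, hya, hyb, r, hr, hra, hry, hun⟩ := hbad
    refine hlast a b w r y (orderOf y) hab hw hwa hY (h.mem_E_of_orderOf hr hra)
      (fun e => by rw [e, orderOf_one] at hr; exact absurd hr (by norm_num)) hya hyb hry.symm.eq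
      ?_ hy rfl
    intro e he hye
    by_cases he1 : e = 1
    · exact Or.inl he1
    · right
      by_contra her
      exact hun e (orderOf_eq_two_of_mul_self (h.mem_E.mp he).1 he1) (h.mem_E.mp he).2 her
        hye.symm
  refine exists_regular_normal h hab.symm ?_ ?_ hbad
  · rintro y hy hya hyb ⟨e, hea, heb, hye⟩ c d hcd hyc hyd
    have hfix : ∀ x : Ω, y • x = x → ∀ g ∈ Subgroup.zpowers y, g • x = x := by
      intro x hx g hg
      have h1 : Subgroup.zpowers y ≤ stabilizer G x := by
        rw [Subgroup.zpowers_le]; exact hx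
      exact h1 hg
    obtain ⟨f, hfc, hfd, hyf⟩ : ∃ f : Ω, c ≠ f ∧ d ≠ f ∧ y • f = f := by
      exact exists_third hab hea.symm heb.symm (P := fun f => y • f = f) hya hyb hye c d
    obtain ⟨u, hu, hu2, huc⟩ := hcl (orderOf y) (Subgroup.zpowers y) hy
      (IsPGroup.of_card (n := 1) (by rw [Nat.card_zpowers, pow_one]))
      (by
        rw [Ne, Subgroup.zpowers_eq_bot]
        intro e1
        rw [e1, orderOf_one] at hy
        exact Nat.not_prime_one hy) c d f hcd hfc hfd (hfix c hyc) (hfix d hyd) (hfix f hyf)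
    exact ⟨u, hu2, (Subgroup.mem_centralizer_iff.mp hu y (Subgroup.mem_zpowers y)).symm, huc⟩
  · rintro y hy hya hyb ⟨r₁, r₂, hr₁, hr₂, hne, hr₁a, hr₂a, hc₁, hc₂⟩ ⟨g, hgy, hga⟩
    have hmem : ∀ {z : G}, Commute z y → z ∈ Subgroup.centralizer ({y} : Set G) := fun hz =>
      Subgroup.mem_centralizer_singleton_iff.mpr hz
    have hy1 : y ≠ 1 := by
      intro e1
      rw [e1, orderOf_one] at hy
      exact Nat.not_prime_one hy
    have hN : Subgroup.centralizer ({y} : Set G) ≠ ⊤ := by
      intro htop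
      have h1 : y ∈ Subgroup.center G := by
        rw [Subgroup.mem_center_iff]
        intro x
        have hx : x ∈ Subgroup.centralizer ({y} : Set G) := by rw [htop]; trivial
        exact Subgroup.mem_centralizer_singleton_iff.mp hx
      rcases IsSimpleGroup.eq_bot_or_eq_top_of_normal (Subgroup.center G) inferInstance with h2 | h2
      · rw [h2, Subgroup.mem_bot] at h1
        exact hy1 h1
      · have h3 : s ∈ Subgroup.center G := by rw [h2]; trivial
        have h4 : w * s = s * w := Subgroup.mem_center_iff.mp h3 w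
        have h5 : s • w • a = w • a := by rw [← mul_smul, ← h4, mul_smul, hsa]
        rw [hwa] at h5
        exact hab (h.uniq.eq hs hsa h5)
    have hcomm := h.comm a r₁ r₂ hr₁ hr₂ hr₁a hr₂a
    exact ⟨good_of_ih hIH h.uniq hN (hmem hc₁) (hmem hc₂) hr₁ hr₂ hne hcomm hr₁a (hmem hgy) hga,
      StrongEmb.GenInv.gen_inv_of_ih hIH h.uniq hN (hmem hc₁) (hmem hc₂) hr₁ hr₂ hne hcomm hr₁a
        (hmem hgy) hga⟩

end Cfsg.Agent.BenderW3.Main
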