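import Cfsg.Agent.BenderW3.TIGram

/-!
# The numerical contradiction

`K` is a self-centralizing TI subgroup of order `2 ^ p - 1` with `|N_G(K) : K| = 2 p`, and `J` is a set
of `1 + (2 ^ p - 2) / p` irreducible characters with `χ(1) = n d_χ`, `∑ d_χ = 2 ^ p - 2`, where
`n ≡ 2` modulo `2 ^ p - 1`.  This is impossible.
-/

set_option autoImplicit false

open Cfsg Cfsg.Agent.Characters.Core Cfsg.Agent.BenderW3.TIGram

namespace Cfsg.Agent.BenderW3.Numerics

open Finset

/-- the number of non-constant rows. -/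
theorem card_nonconst_le {X L : Type*} [Fintype X] [Fintype L] (r : L → L → Prop)
    (e : ℕ) (a : X → L → ℤ)
    (h1 : ∀ l m, r l m → ∀ x, a x l = a x m)
    (h2 : ∀ l m, ¬ r l m → ∑ x, (a x l - a x m) ^ 2 = 2)
    (hcls : ∀ l, Nat.card {m // r m l} = e)
    (NC : Finset X) (hNC : ∀ x ∈ NC, ∃ l m, a x l ≠ a x m) :
    (#NC : ℤ) * (2 * e * (Fintype.card L - e)) ≤ 2 * Fintype.card L * (Fintype.card L - e) := by
  classical
  have hcls' : ∀ l, #{m | r m l} = e := by
    intro l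
    rw [← hcls l, Nat.card_eq_fintype_card, Fintype.card_subtype]
  -- total
  have htot : ∑ x, ∑ m : L, ∑ l : L, (a x l - a x m) ^ 2 =
      2 * (Fintype.card L : ℤ) * (Fintype.card L - e) := by
    rw [Finset.sum_comm]
    have h3 : ∀ m : L, ∑ x, ∑ l : L, (a x l - a x m) ^ 2 = 2 * ((Fintype.card L : ℤ) - e) := by
      intro m
      rw [Finset.sum_comm]
      have h4 : ∀ l : L, ∑ x, (a x l - a x m) ^ 2 = if r l m then 0 else 2 := by
        intro l
        split_ifs with h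
        · exact Finset.sum_eq_zero fun x _ => by rw [h1 l m h x, sub_self]; rfl
        · exact h2 l m h
      rw [Finset.sum_congr rfl fun l _ => h4 l, Finset.sum_ite, Finset.sum_const_zero, zero_add,
        Finset.sum_const, nsmul_eq_mul]
      have h5 : #{l | ¬ r l m} + #{l | r l m} = Fintype.card L := by
        rw [add_comm, Finset.card_filter_add_card_filter_not, Finset.card_univ]
      rw [hcls' m] at h5
      have h6 : (#{l | ¬ r l m} : ℤ) = (Fintype.card L : ℤ) - e := by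
        rw [← h5]; push_cast; ring
      rw [h6]; ring
    rw [Finset.sum_congr rfl fun m _ => h3 m, Finset.sum_const, Finset.card_univ, nsmul_eq_mul]
    ring
  -- each nonconstant row
  have hrow : ∀ x ∈ NC, 2 * (e : ℤ) * ((Fintype.card L : ℤ) - e) ≤
      ∑ m : L, ∑ l : L, (a x l - a x m) ^ 2 := by
    intro x hx
    obtain ⟨l0, m0, hlm⟩ := hNC x hx
    set A : Finset L := {l | a x l = a x l0} with hA
    have hA1 : e ≤ #A := by
      rw [← hcls' l0]
      refine Finset.card_le_card fun m hm => ?_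
      rw [Finset.mem_filter] at hm
      rw [hA, Finset.mem_filter]
      exact ⟨Finset.mem_univ _, h1 m l0 hm.2 x⟩
    have hA2 : e ≤ #Aᶜ := by
      rw [← hcls' m0]
      refine Finset.card_le_card fun m hm => ?_
      rw [Finset.mem_filter] at hm
      rw [Finset.mem_compl, hA, Finset.mem_filter]
      intro h
      apply hlm
      rw [← h.2, h1 m m0 hm.2 x]
    have hAc : #A + #Aᶜ = Fintype.card L := Finset.card_add_card_compl A
    have hone : ∀ l ∈ A, ∀ m ∈ Aᶜ, (1 : ℤ) ≤ (a x l - a x m) ^ 2 := by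
      intro l hl m hm
      have hne : a x l - a x m ≠ 0 := by
        intro h
        rw [Finset.mem_compl, hA, Finset.mem_filter] at hm
        rw [hA, Finset.mem_filter] at hl
        exact hm ⟨Finset.mem_univ _, by rw [← hl.2]; omega⟩
      have := sq_pos_of_ne_zero hne
      omega
    have h5 : (#A : ℤ) * #Aᶜ ≤ ∑ m ∈ Aᶜ, ∑ l ∈ A, (a x l - a x m) ^ 2 := by
      have h6 : ∀ m ∈ Aᶜ, (#A : ℤ) ≤ ∑ l ∈ A, (a x l - a x m) ^ 2 := by
        intro m hm
        have := Finset.card_nsmul_le_sum A (fun l => (a x l - a x m) ^ 2) 1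
          (fun l hl => hone l hl m hm)
        rwa [nsmul_one] at this
      have := Finset.card_nsmul_le_sum Aᶜ (fun m => ∑ l ∈ A, (a x l - a x m) ^ 2) (#A : ℤ) h6
      rw [nsmul_eq_mul] at this
      linarith [mul_comm (#A : ℤ) #Aᶜ]
    have h7 : (#A : ℤ) * #Aᶜ ≤ ∑ m ∈ A, ∑ l ∈ Aᶜ, (a x l - a x m) ^ 2 := by
      have h6 : ∀ m ∈ A, (#Aᶜ : ℤ) ≤ ∑ l ∈ Aᶜ, (a x l - a x m) ^ 2 := by
        intro m hm
        have := Finset.card_nsmul_le_sum Aᶜ (fun l => (a x l - a x m) ^ 2) 1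
          (fun l hl => by
            have := hone m hm l hl
            have e1 : (a x l - a x m) ^ 2 = (a x m - a x l) ^ 2 := by ring
            rw [e1]; exact this)
        rwa [nsmul_one] at this
      have := Finset.card_nsmul_le_sum A (fun m => ∑ l ∈ Aᶜ, (a x l - a x m) ^ 2) (#Aᶜ : ℤ) h6
      rwa [nsmul_eq_mul] at this
    have h8 : ∑ m : L, ∑ l : L, (a x l - a x m) ^ 2 =
        (∑ m ∈ A, ∑ l ∈ A, (a x l - a x m) ^ 2 + ∑ m ∈ A, ∑ l ∈ Aᶜ, (a x l - a x m) ^ 2) +
        (∑ m ∈ Aᶜ, ∑ l ∈ A, (a x l - a x m) ^ 2 + ∑ m ∈ Aᶜ, ∑ l ∈ Aᶜ, (a x l - a x m) ^ 2) := by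
      rw [← Finset.sum_add_distrib, ← Finset.sum_add_distrib, ← Finset.sum_add_sum_compl A]
      congr 1 <;>
      exact Finset.sum_congr rfl fun m _ => (Finset.sum_add_sum_compl A _).symm
    have h9 : 0 ≤ ∑ m ∈ A, ∑ l ∈ A, (a x l - a x m) ^ 2 :=
      Finset.sum_nonneg fun _ _ => Finset.sum_nonneg fun _ _ => sq_nonneg _
    have h10 : 0 ≤ ∑ m ∈ Aᶜ, ∑ l ∈ Aᶜ, (a x l - a x m) ^ 2 :=
      Finset.sum_nonneg fun _ _ => Finset.sum_nonneg fun _ _ => sq_nonneg _
    have h11 : (e : ℤ) * ((Fintype.card L : ℤ) - e) ≤ (#A : ℤ) * #Aᶜ := by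
      have e1 : (Fintype.card L : ℤ) = #A + #Aᶜ := by exact_mod_cast hAc.symm
      rw [e1]
      have e2 : (e : ℤ) ≤ #A := by exact_mod_cast hA1
      have e3 : (e : ℤ) ≤ #Aᶜ := by exact_mod_cast hA2
      nlinarith [mul_nonneg (sub_nonneg.mpr e2) (sub_nonneg.mpr e3)]
    linarith
  calc (#NC : ℤ) * (2 * e * (Fintype.card L - e))
      = ∑ x ∈ NC, (2 * (e : ℤ) * ((Fintype.card L : ℤ) - e)) := by
        rw [Finset.sum_const, nsmul_eq_mul]
    _ ≤ ∑ x ∈ NC, ∑ m : L, ∑ l : L, (a x l - a x m) ^ 2 := Finset.sum_le_sum hrow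
    _ ≤ ∑ x, ∑ m : L, ∑ l : L, (a x l - a x m) ^ 2 :=
        Finset.sum_le_sum_of_subset_of_nonneg (Finset.subset_univ _) fun _ _ _ =>
          Finset.sum_nonneg fun _ _ => Finset.sum_nonneg fun _ _ => sq_nonneg _
    _ = _ := htot

theorem pow_gt (p : ℕ) (hp : 5 ≤ p) : p * (p - 1) + 2 < 2 ^ p := by
  induction p, hp using Nat.le_induction with
  | base => norm_num
  | succ n hn ih =>
    obtain ⟨k, rfl⟩ : ∃ k, n = k + 5 := ⟨n - 5, by omega⟩
    simp only [show k + 5 - 1 = k + 4 by omega, show k + 5 + 1 - 1 = k + 5 by omega] at ih ⊢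
    rw [pow_succ]
    nlinarith [ih]

/-- the numerical contradiction. -/
theorem contra {X : Type*} (p N : ℕ) (hp : 3 ≤ p) (hp4 : p ≠ 4) (hN : 2 * p * N = 2 ^ p - 2)
    (J : Finset X) (hJ : 2 * N + 1 ≤ #J) (d : X → ℕ) (hd : ∀ x ∈ J, 1 ≤ d x)
    (hsum : ∑ x ∈ J, d x = 2 ^ p - 2) (Jc : Finset X) (hJc : Jc ⊆ J) (hJc1 : N + 1 ≤ #Jc)
    (hJc2 : N = 1 → 3 ≤ #Jc) (c : X → ℤ)
    (hc : ∀ x ∈ Jc, ∃ m : ℤ, c x = 2 * d x + (2 ^ p - 1) * m)
    (hcs : ∑ x ∈ Jc, c x ^ 2 ≤ 2 * p - 1) : False := by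
  classical
  obtain ⟨Q, hQ⟩ : ∃ Q : ℕ, 2 ^ p = 2 * Q := by
    refine ⟨2 ^ (p - 1), ?_⟩
    rw [← pow_succ', Nat.sub_add_cancel (by omega)]
  have hQ4 : 4 ≤ Q := by
    have : 2 ^ 3 ≤ 2 ^ p := Nat.pow_le_pow_right (by norm_num) hp
    omega
  have hQz : (2 : ℤ) ^ p = 2 * Q := by exact_mod_cast hQ
  rw [hQ] at hN hsum
  rw [hQz] at hc
  have hdle : ∀ x ∈ J, d x ≤ 2 * Q - 2 := by
    intro x hx
    rw [← hsum]
    exact Finset.single_le_sum (fun _ _ => Nat.zero_le _) hx
  have hc0 : ∀ x ∈ Jc, c x ≠ 0 := by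
    intro x hx h0
    obtain ⟨m, hm⟩ := hc x hx
    have h1 := hd x (hJc hx)
    have h2 := hdle x (hJc hx)
    rw [h0] at hm
    rcases lt_trichotomy m (-1) with h | h | h
    · have : (2 * (Q : ℤ) - 1) * m ≤ (2 * (Q : ℤ) - 1) * (-2) :=
        mul_le_mul_of_nonneg_left (by omega) (by omega)
      omega
    · subst h; omega
    · have : (0 : ℤ) ≤ (2 * (Q : ℤ) - 1) * m := mul_nonneg (by omega) (by omega)
      omega
  have hc1 : ∀ x ∈ Jc, c x ^ 2 = 1 → Q - 1 ≤ d x := by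
    intro x hx h0
    obtain ⟨m, hm⟩ := hc x hx
    have h1 := hd x (hJc hx)
    have h3 : c x = 1 ∨ c x = -1 := mul_self_eq_one_iff.mp (by rw [← sq]; exact h0)
    have hm0 : m ≤ -1 := by
      by_contra h
      have : (0 : ℤ) ≤ (2 * (Q : ℤ) - 1) * m := mul_nonneg (by omega) (by omega)
      omega
    have : (2 * (Q : ℤ) - 1) * m ≤ (2 * (Q : ℤ) - 1) * (-1) :=
        mul_le_mul_of_nonneg_left (by omega) (by omega)
    omega
  set T : Finset X := Jc.filter (fun x => c x ^ 2 = 1) with hT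
  have hT1 : #T ≤ 1 := by
    rw [Finset.card_le_one]
    intro x hx y hy
    by_contra hxy
    rw [hT, Finset.mem_filter] at hx hy
    have hpair : ({x, y} : Finset X) ⊆ J := by
      intro z hz
      rw [Finset.mem_insert, Finset.mem_singleton] at hz
      rcases hz with rfl | rfl
      · exact hJc hx.1
      · exact hJc hy.1
    have hN1 : 1 ≤ N := by
      rcases Nat.eq_zero_or_pos N with h | h
      · rw [h] at hN; omega
      · exact h
    obtain ⟨z, hz, hz'⟩ : ∃ z ∈ J, z ∉ ({x, y} : Finset X) := by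
      by_contra h
      push Not at h
      have h1 := Finset.card_le_card (show J ⊆ {x, y} from h)
      rw [Finset.card_pair hxy] at h1
      omega
    have h2 : d z + (d x + d y) ≤ ∑ w ∈ J, d w := by
      rw [← Finset.sum_pair hxy, ← Finset.sum_insert hz']
      refine Finset.sum_le_sum_of_subset ?_
      intro w hw
      rw [Finset.mem_insert] at hw
      rcases hw with rfl | hw
      · exact hz
      · exact hpair hw
    have h3 := hc1 x hx.1 hx.2
    have h4 := hc1 y hy.1 hy.2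
    have h5 := hd z hz
    omega
  have h4 : (4 : ℤ) * #Jc - 3 ≤ ∑ x ∈ Jc, c x ^ 2 := by
    rw [← Finset.sum_filter_add_sum_filter_not Jc (fun x => c x ^ 2 = 1)]
    have e1 : ∑ x ∈ Jc.filter (fun x => c x ^ 2 = 1), c x ^ 2 = #T := by
      rw [Finset.sum_congr rfl (g := fun _ => (1 : ℤ)) (fun x hx => (Finset.mem_filter.mp hx).2)]
      simp [hT]
    have e2 : (4 : ℤ) * #(Jc.filter (fun x => ¬ c x ^ 2 = 1)) ≤
        ∑ x ∈ Jc.filter (fun x => ¬ c x ^ 2 = 1), c x ^ 2 := by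
      have := Finset.card_nsmul_le_sum (Jc.filter (fun x => ¬ c x ^ 2 = 1)) (fun x => c x ^ 2) 4
        (fun x hx => by
          rw [Finset.mem_filter] at hx
          have h0 := hc0 x hx.1
          have h1 := hx.2
          have h5 : c x ≠ 1 := fun h => h1 (by rw [h]; rfl)
          have h6 : c x ≠ -1 := fun h => h1 (by rw [h]; rfl)
          have h7 : c x ≤ -2 ∨ 2 ≤ c x := by omega
          rcases h7 with h7 | h7 <;> nlinarith)
      rw [nsmul_eq_mul] at this
      linarith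
    have e3 : #T + #(Jc.filter (fun x => ¬ c x ^ 2 = 1)) = #Jc := by
      rw [hT, Finset.card_filter_add_card_filter_not]
    rw [e1]
    omega
  have h5 : 2 * N + 1 ≤ p := by omega
  have h6 : 2 * Q - 2 ≤ p * (p - 1) := by
    rw [← hN]
    calc 2 * p * N = p * (2 * N) := by ring
      _ ≤ p * (p - 1) := Nat.mul_le_mul_left _ (by omega)
  have h7 : ¬ 5 ≤ p := by
    intro h
    have := pow_gt p h
    rw [hQ] at this
    omega
  have h8 : p = 3 := by omega
  subst h8
  have hN1 : N = 1 := by omega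
  have := hJc2 hN1
  omega

universe u

variable {G : Type u} [Group G] [Finite G] {K : Subgroup G}

omit [Finite G] in
theorem rel_ne_one {l m : K →* ℂˣ} (h : rel K m l) (hl : l ≠ 1) : m ≠ 1 := by
  obtain ⟨s, _, hs⟩ := rel_symm h
  intro hm
  apply hl
  rw [← hs, hm]
  ext; rfl

/-- The contradiction for groups. -/
theorem no_family (hC : ∀ k ∈ K, k ≠ 1 → Subgroup.centralizer {k} = K) (p : ℕ) (hp : 3 ≤ p)
    (hp4 : p ≠ 4) (hK : Nat.card K = 2 ^ p - 1) (haut : Nat.card (autz K) = 2 * p)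
    (n : ℕ) (hn : ((2 : ℤ) ^ p - 1) ∣ (n : ℤ) - 2)
    (J : Finset (IrrCharacter G)) (N : ℕ) (hN : 2 * p * N = 2 ^ p - 2)
    (hJ : 2 * N + 1 ≤ #J)
    (d : IrrCharacter G → ℕ) (hd : ∀ χ ∈ J, 1 ≤ d χ)
    (hdeg : ∀ χ ∈ J, (χ : G → ℂ) 1 = (n : ℂ) * d χ) (hsum : ∑ χ ∈ J, d χ = 2 ^ p - 2)
    (one St : IrrCharacter G) (hne : one ≠ St) (h1J : one ∉ J) (hSJ : St ∉ J)
    (hone : ∀ k ∈ K, k ≠ 1 → (one : G → ℂ) k = 1)
    (hSt : ∀ k ∈ K, k ≠ 1 → (St : G → ℂ) k = 1) : False := by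
  classical
  have hfin1 : Finite (IrrCharacter G) := finite_irr
  have : Fintype (IrrCharacter G) := Fintype.ofFinite _
  have hab := comm_of hC
  have hfin : Finite (K →* ℂˣ) := Cfsg.Agent.Blocks.SemiregularGram.finite_hom K
  have : Fintype (K →* ℂˣ) := Fintype.ofFinite _
  let L := {l : K →* ℂˣ // l ≠ 1}
  have hLc : Fintype.card L = 2 ^ p - 2 := by
    have h := card_ne_one hab
    rw [hK] at h
    rw [← Nat.card_eq_fintype_card]
    exact h.trans (by omega)
  have hpow : 8 ≤ 2 ^ p := by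
    calc 8 = 2 ^ 3 := by norm_num
      _ ≤ 2 ^ p := Nat.pow_le_pow_right (by norm_num) hp
  have hNpos : 1 ≤ N := by
    rcases Nat.eq_zero_or_pos N with h | h
    · rw [h] at hN; omega
    · exact h
  let a : IrrCharacter G → L → ℤ := fun χ l => cf K χ l.1
  let r : L → L → Prop := fun l m => rel K l.1 m.1
  have hr1 : ∀ l m : L, r l m → ∀ χ, a χ l = a χ m := fun l m h χ => cf_eq_of_rel hC _ _ h χ
  have hr2 : ∀ l m : L, ¬ r l m → ∑ χ, (a χ l - a χ m) ^ 2 = 2 := fun l m h =>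
    sum_sub_sq hC _ _ l.2 m.2 h
  have hr3 : ∀ l : L, Nat.card {m : L // r m l} = 2 * p := by
    intro l
    rw [← haut, ← card_rel hC l.1 l.2]
    refine Nat.card_congr
      { toFun := fun m => ⟨m.1.1, m.2⟩
        invFun := fun m => ⟨⟨m.1, rel_ne_one m.2 l.2⟩, m.2⟩
        left_inv := fun m => rfl
        right_inv := fun m => rfl }
  let P : IrrCharacter G → Prop := fun χ => ∃ l m : L, a χ l ≠ a χ m
  set NC : Finset (IrrCharacter G) := Finset.univ.filter P with hNC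
  have hNC' : ∀ χ ∈ NC, ∃ l m : L, a χ l ≠ a χ m := fun χ h => (Finset.mem_filter.mp h).2
  have hcard := card_nonconst_le r (2 * p) a hr1 hr2 hr3 NC hNC'
  have hLN : (Fintype.card L : ℤ) = 2 * p * N := by
    rw [hLc, ← hN]; push_cast; ring
  rw [hLN] at hcard
  push_cast at hcard
  have hNCN : #NC ≤ N ∧ (N = 1 → #NC = 0) := by
    rcases Nat.lt_or_ge 1 N with h | h
    · refine ⟨?_, fun h' => absurd h' (by omega)⟩
      have h1 : (0 : ℤ) < 2 * (2 * p) * (2 * p * N - 2 * p) := by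
        have : (0 : ℤ) < 2 * p * (N - 1) := by
          apply mul_pos
          · omega
          · omega
        have e1 : (2 * (p : ℤ) * N - 2 * p) = 2 * p * (N - 1) := by ring
        rw [e1]
        positivity
      have h2 : (#NC : ℤ) * (2 * (2 * p) * (2 * p * N - 2 * p)) ≤
          N * (2 * (2 * p) * (2 * p * N - 2 * p)) := by
        calc (#NC : ℤ) * (2 * (2 * p) * (2 * p * N - 2 * p)) ≤ _ := hcard
          _ = _ := by ring
      have h3 := le_of_mul_le_mul_right h2 h1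
      exact_mod_cast h3
    · have h1 : N = 1 := by omega
      have h2 : #NC = 0 := by
        rw [Finset.card_eq_zero, Finset.eq_empty_iff_forall_notMem]
        intro χ hχ
        obtain ⟨l, m, hlm⟩ := hNC' χ hχ
        apply hlm
        have h3 := hr3 m
        have h4 : Fintype.card L = 2 * p := by rw [hLc, ← hN, h1, mul_one]
        have h5 : Function.Surjective (Subtype.val : {x : L // r x m} → L) := by
          apply Function.Injective.surjective_of_finite (Fintype.equivOfCardEq ?_)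
            Subtype.val_injective
          rw [← Nat.card_eq_fintype_card, h3, h4]
        obtain ⟨⟨x, hx⟩, hx'⟩ := h5 l
        simp only at hx'
        rw [← hx']
        exact hr1 x m hx χ
      omega
  -- a nontrivial linear character
  have hLne : 0 < Fintype.card L := by omega
  obtain ⟨l0⟩ := Fintype.card_pos_iff.mp hLne
  let c : IrrCharacter G → ℤ := fun χ => a χ l0
  set Jc : Finset (IrrCharacter G) := J.filter (fun χ => χ ∉ NC) with hJc
  have hJsub : Jc ⊆ J := Finset.filter_subset _ _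
  have hJcard : #J ≤ #Jc + #NC := by
    have h1 : J ⊆ Jc ∪ NC := by
      intro χ hχ
      rw [Finset.mem_union, hJc, Finset.mem_filter]
      by_cases h : χ ∈ NC
      · exact Or.inr h
      · exact Or.inl ⟨hχ, h⟩
    exact (Finset.card_le_card h1).trans (Finset.card_union_le _ _)
  have hJcle : #Jc ≤ #J := Finset.card_le_card hJsub
  have hconst : ∀ χ ∈ Jc, ∀ l : K →* ℂˣ, l ≠ 1 → cf K χ l = c χ := by
    intro χ hχ l hl
    rw [hJc, Finset.mem_filter, hNC, Finset.mem_filter] at hχ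
    by_contra h
    exact hχ.2 ⟨Finset.mem_univ _, ⟨l, hl⟩, l0, h⟩
  have hcmod : ∀ χ ∈ Jc, ∃ m : ℤ, c χ = 2 * d χ + (2 ^ p - 1) * m := by
    intro χ hχ
    obtain ⟨m, hm⟩ := degree_of_cf hab χ (c χ) (hconst χ hχ)
    rw [hdeg χ (hJsub hχ)] at hm
    have h1 : (n : ℤ) * d χ = Nat.card K * m + c χ := by exact_mod_cast hm
    have hKz : (Nat.card K : ℤ) = 2 ^ p - 1 := by
      rw [hK, Nat.cast_sub (by omega)]; push_cast; ring
    rw [hKz] at h1
    obtain ⟨t, ht⟩ := hn
    refine ⟨t * d χ - m, ?_⟩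
    have h2 : (n : ℤ) = 2 + (2 ^ p - 1) * t := by linarith
    rw [h2] at h1
    linear_combination -h1
  have hsq : ∑ χ ∈ Jc, c χ ^ 2 ≤ 2 * p - 1 := by
    have h1 := sum_sq hC l0.1 l0.2
    rw [haut] at h1
    push_cast at h1
    have hone' : cf K one l0.1 = 1 := cf_of_const one 1 (fun k hk => by
      rw [hone k k.2 (fun h => hk (Subtype.ext h))]; simp) l0.1 l0.2
    have hSt' : cf K St l0.1 = 1 := cf_of_const St 1 (fun k hk => by
      rw [hSt k k.2 (fun h => hk (Subtype.ext h))]; simp) l0.1 l0.2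
    have h2 : ∑ χ ∈ insert one (insert St Jc), cf K χ l0.1 ^ 2 ≤
        ∑ χ : IrrCharacter G, cf K χ l0.1 ^ 2 :=
      Finset.sum_le_sum_of_subset_of_nonneg (Finset.subset_univ _) fun _ _ _ => sq_nonneg _
    have hn1 : one ∉ insert St Jc := by
      rw [Finset.mem_insert, not_or]
      exact ⟨hne, fun h => h1J (hJsub h)⟩
    have hn2 : St ∉ Jc := fun h => hSJ (hJsub h)
    rw [Finset.sum_insert hn1, Finset.sum_insert hn2, hone', hSt', h1] at h2
    have h3 : ∑ χ ∈ Jc, c χ ^ 2 = ∑ χ ∈ Jc, cf K χ l0.1 ^ 2 := rfl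
    rw [h3]
    linarith
  exact contra p N hp hp4 hN J hJ d hd hsum Jc hJsub (by omega) (fun h => by
    have := hNCN.2 h
    omega) c hcmod hsq

end Cfsg.Agent.BenderW3.Numerics
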