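import Cfsg.Agent.BenderW3.NotTwoTrans
import Cfsg.Agent.BenderW3.RankDich

/-!
# The orbits of `C_G(s)` on `Z - 1` are the orbits of `P`
-/

set_option autoImplicit false

open Cfsg Cfsg.Agent.Characters.Core Cfsg.Agent.BenderW3.PermG

namespace Cfsg.Agent.BenderW3.Frame

universe v

/-- The nontrivial elements of `Z`, with the action of `H`. -/
def Zs {G : Type v} [Group G] (H Z : Subgroup G) (_ : ∀ h ∈ H, ∀ z ∈ Z, h * z * h⁻¹ ∈ Z) : Type v :=
  {z : G // z ∈ Z ∧ z ≠ 1}

namespace Zs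

variable {G : Type v} [Group G] {H Z : Subgroup G} {hn : ∀ h ∈ H, ∀ z ∈ Z, h * z * h⁻¹ ∈ Z}

theorem conj_ne_one (g : G) {z : G} (hz : z ≠ 1) : g * z * g⁻¹ ≠ 1 := by
  intro h
  apply hz
  calc z = g⁻¹ * (g * z * g⁻¹) * g := by group
    _ = 1 := by rw [h]; group

instance : MulAction H (Zs H Z hn) where
  smul g i := ⟨g * i.1 * (g : G)⁻¹, hn g g.2 _ i.2.1, conj_ne_one _ i.2.2⟩
  one_smul i := Subtype.ext (by show ((1 : H) : G) * i.1 * ((1 : H) : G)⁻¹ = i.1; simp)
  mul_smul g h i := Subtype.ext (by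
    show ((g * h : H) : G) * i.1 * ((g * h : H) : G)⁻¹ = g * (h * i.1 * (h : G)⁻¹) * (g : G)⁻¹
    rw [Subgroup.coe_mul]; group)

theorem smul_val (g : H) (i : Zs H Z hn) : (g • i).1 = g * i.1 * (g : G)⁻¹ := rfl

instance [Finite G] : Finite (Zs H Z hn) := inferInstanceAs (Finite {z : G // z ∈ Z ∧ z ≠ 1})

end Zs

variable {G : Type v} [Group G] {p : ℕ} {H Z K P : Subgroup G} {s u : G}

section

variable (F : Frame p H Z K P s u)
include F

/-- the base point -/
abbrev bs : Zs H Z F.Znor := ⟨s, F.hs, F.hs1⟩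

theorem pretransitive : MulAction.IsPretransitive H (Zs H Z F.Znor) where
  exists_smul_eq x y := by
    obtain ⟨k, hk, hkx⟩ := F.Ktrans' x.2.1 x.2.2 y.2.1 y.2.2
    exact ⟨⟨k, F.KH hk⟩, Subtype.ext hkx⟩

theorem KC' : ∀ k ∈ K.subgroupOf H, k ≠ 1 → Subgroup.centralizer {k} = K.subgroupOf H := by
  intro k hk hk1
  have hk' : (k : G) ∈ K := Subgroup.mem_subgroupOf.mp hk
  have hk1' : (k : G) ≠ 1 := fun h => hk1 (Subtype.ext h)
  ext x
  rw [Subgroup.mem_centralizer_singleton_iff, Subgroup.mem_subgroupOf, ← F.KC k hk' hk1',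
    Subgroup.mem_centralizer_singleton_iff]
  exact ⟨fun h => congrArg Subtype.val h, fun h => Subtype.ext h⟩

theorem card_K' : Nat.card (K.subgroupOf H) = Nat.card K :=
  Nat.card_congr (Subgroup.subgroupOfEquivOfLe F.KH).toEquiv

theorem mem_stab_bs (h : H) : h • F.bs = F.bs ↔ (h : G) ∈ Subgroup.centralizer ({s} : Set G) := by
  rw [Subgroup.mem_centralizer_singleton_iff]
  constructor
  · intro h1
    have h2 : (h : G) * s * (h : G)⁻¹ = s := congrArg Subtype.val h1
    calc (h : G) * s = h * s * (h : G)⁻¹ * h := by group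
      _ = s * h := by rw [h2]
  · intro h1
    apply Subtype.ext
    show (h : G) * s * (h : G)⁻¹ = s
    rw [h1, mul_inv_cancel_right]

variable [Finite G]

theorem card_autz_H : Nat.card (TIGram.autz (K.subgroupOf H)) ≤ p := by
  rw [← F.cardP]
  have hN : ∀ y : P, (⟨(y : G), F.PH y.2⟩ : H) ∈
      Subgroup.normalizer ((K.subgroupOf H : Subgroup H) : Set H) := by
    intro y
    rw [Subgroup.mem_normalizer_iff]
    intro k
    rw [Subgroup.mem_subgroupOf, Subgroup.mem_subgroupOf]
    exact Subgroup.mem_normalizer_iff.mp (F.P_mem_normalizer y.2) k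
  refine Nat.card_le_card_of_surjective
    (fun y : P => (⟨(K.subgroupOf H).normalizerMonoidHom ⟨_, hN y⟩, ⟨_, rfl⟩⟩ :
      TIGram.autz (K.subgroupOf H))) ?_
  rintro ⟨t, ht⟩
  obtain ⟨g, hg, hgt⟩ := (TIGram.mem_autz _ t).mp ht
  have hgN : (g : G) ∈ Subgroup.normalizer (K : Set G) := by
    rw [Subgroup.mem_normalizer_iff] at hg ⊢
    intro k
    constructor
    · intro hk
      exact Subgroup.mem_subgroupOf.mp ((hg ⟨k, F.KH hk⟩).mp (Subgroup.mem_subgroupOf.mpr hk))
    · intro hk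
      have hkH : k ∈ H := by
        have := mul_mem (mul_mem (inv_mem g.2) (F.KH hk)) g.2
        have e : (g : G)⁻¹ * (g * k * (g : G)⁻¹) * g = k := by group
        rwa [e] at this
      exact Subgroup.mem_subgroupOf.mp ((hg ⟨k, hkH⟩).mpr (Subgroup.mem_subgroupOf.mpr hk))
  obtain ⟨k, hk, y, hy, hky⟩ := F.dec g g.2 (F.normalizer_H hgN g.2)
  refine ⟨⟨y, hy⟩, ?_⟩
  apply Subtype.ext
  ext x
  have h1 := congrArg Subtype.val (hgt x)
  show y * ((x : H) : G) * y⁻¹ = (((t x : K.subgroupOf H) : H) : G)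
  rw [h1]
  rw [Subgroup.coe_mul, Subgroup.coe_mul, Subgroup.coe_inv, hky]
  have hx : ((x : H) : G) ∈ K := Subgroup.mem_subgroupOf.mp x.2
  have hyx : y * ((x : H) : G) * y⁻¹ ∈ K :=
    (Subgroup.mem_normalizer_iff.mp (F.P_mem_normalizer hy) _).mp hx
  have h2 := F.Kcomm hk hyx
  calc y * ((x : H) : G) * y⁻¹ = (y * ((x : H) : G) * y⁻¹) * k * k⁻¹ := by group
    _ = k * (y * ((x : H) : G) * y⁻¹) * k⁻¹ := by rw [h2]
    _ = _ := by group

/-- the number of orbits of `P`. -/
theorem card_P_orbits (N : ℕ) (hN : 2 * p * N = 2 ^ p - 2) :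
    Nat.card (MulAction.orbitRel.Quotient (P.subgroupOf H) (Zs H Z F.Znor)) = 2 * N + 1 := by
  classical
  have := Fintype.ofFinite G
  have : Fintype (Zs H Z F.Znor) := Fintype.ofFinite _
  have : Fintype (P.subgroupOf H) := Fintype.ofFinite _
  have : Fintype (MulAction.orbitRel.Quotient (P.subgroupOf H) (Zs H Z F.Znor)) :=
    Fintype.ofFinite _
  have hcP : Nat.card (P.subgroupOf H) = p := by
    rw [← F.cardP]
    exact Nat.card_congr (Subgroup.subgroupOfEquivOfLe F.PH).toEquiv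
  have hfix1 : Nat.card (MulAction.fixedBy (Zs H Z F.Znor) (1 : P.subgroupOf H)) = 2 ^ p - 1 := by
    rw [← F.card_Zne]
    exact Nat.card_congr (_root_.Equiv.subtypeUnivEquiv fun x => one_smul _ x)
  have hfix : ∀ y : P.subgroupOf H, y ≠ 1 →
      Nat.card (MulAction.fixedBy (Zs H Z F.Znor) y) = 1 := by
    intro y hy
    have hyP : ((y : H) : G) ∈ P := Subgroup.mem_subgroupOf.mp y.2
    rw [Nat.card_eq_one_iff_unique]
    refine ⟨⟨?_⟩, ⟨⟨F.bs, ?_⟩⟩⟩
    · have key : ∀ x : Zs H Z F.Znor, y • x = x → x = F.bs := by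
        intro x hx
        have hx' : ((y : H) : G) * x.1 * ((y : H) : G)⁻¹ = x.1 := congrArg Subtype.val hx
        obtain ⟨k, hk, hkx⟩ := F.Ktrans x.1 x.2.1 x.2.2
        by_cases hk1 : k = 1
        · apply Subtype.ext
          rw [← hkx, hk1]
          show 1 * s * 1⁻¹ = s
          group
        · exfalso
          apply hy
          set Y := ((y : H) : G) with hY
          have hyk : Y * k * Y⁻¹ ∈ K :=
            (Subgroup.mem_normalizer_iff.mp (F.P_mem_normalizer hyP) _).mp hk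
          have hys := F.Ps Y hyP
          have h1 : k⁻¹ * (Y * k * Y⁻¹) = 1 := by
            apply F.Kfree _ (mul_mem (inv_mem hk) hyk)
            have hys' : Y⁻¹ * s = s * Y⁻¹ := by
              rw [inv_mul_eq_iff_eq_mul, ← mul_assoc, hys, mul_inv_cancel_right]
            have h2 : Y * k * s * k⁻¹ * Y⁻¹ = k * s * k⁻¹ := by
              rw [hkx, ← hx', ← hkx]; group
            calc k⁻¹ * (Y * k * Y⁻¹) * s = k⁻¹ * (Y * k) * (Y⁻¹ * s) := by group
              _ = k⁻¹ * (Y * k) * (s * Y⁻¹) := by rw [hys']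
              _ = k⁻¹ * (Y * k * s * k⁻¹ * Y⁻¹) * (Y * k * Y⁻¹) := by group
              _ = k⁻¹ * (k * s * k⁻¹) * (Y * k * Y⁻¹) := by rw [h2]
              _ = _ := by group
          have h3 : Y ∈ Subgroup.centralizer ({k} : Set G) := by
            rw [Subgroup.mem_centralizer_singleton_iff]
            rw [inv_mul_eq_one] at h1
            calc Y * k = Y * k * Y⁻¹ * Y := by group
              _ = k * Y := by rw [← h1]
          rw [F.KC k hk hk1] at h3
          have h4 := F.Kfree Y h3 hys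
          exact Subtype.ext (Subtype.ext h4)
      intro a b
      apply Subtype.ext
      rw [key a.1 a.2, key b.1 b.2]
    · show y • F.bs = F.bs
      apply (F.mem_stab_bs y).mpr
      rw [Subgroup.mem_centralizer_singleton_iff]
      exact F.Ps _ hyP
  have h1 := MulAction.sum_card_fixedBy_eq_card_orbits_mul_card_group (P.subgroupOf H)
    (Zs H Z F.Znor)
  rw [← Finset.add_sum_erase _ _ (Finset.mem_univ (1 : P.subgroupOf H)),
    ← Nat.card_eq_fintype_card, hfix1,
    Finset.sum_congr rfl (g := fun _ => 1) (fun y hy => by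
      rw [← Nat.card_eq_fintype_card]; exact hfix y (Finset.ne_of_mem_erase hy)),
    Finset.sum_const, Finset.card_erase_of_mem (Finset.mem_univ _), Finset.card_univ,
    ← Nat.card_eq_fintype_card, ← Nat.card_eq_fintype_card, hcP] at h1
  have h2 := F.pow_ge
  have h3 := F.hp3
  rw [smul_eq_mul, mul_one] at h1
  have h4 : 2 ^ p - 1 + (p - 1) = p * (2 * N + 1) := by
    have e : p * (2 * N + 1) = 2 * p * N + p := by ring
    rw [e, hN]; omega
  rw [h4, mul_comm] at h1
  exact (Nat.eq_of_mul_eq_mul_right (by omega : 0 < p) h1).symm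

/-- `C_G(s)` and `P` have the same orbits on `Z`. -/
theorem star (g : G) (hg : g ∈ Subgroup.centralizer ({s} : Set G)) (z : G) (hz : z ∈ Z) :
    ∃ y ∈ P, g * z * g⁻¹ = y * z * y⁻¹ := by
  classical
  by_cases hz1 : z = 1
  · exact ⟨1, one_mem _, by rw [hz1]; group⟩
  have := Fintype.ofFinite G
  have : Fintype H := Fintype.ofFinite _
  have : Fintype (Zs H Z F.Znor) := Fintype.ofFinite _
  have htr := F.pretransitive
  have hpow := F.pow_ge
  have hp3 := F.hp3
  -- `p` divides `2 ^ p - 2`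
  obtain ⟨N, hN⟩ : ∃ N, 2 * p * N = 2 ^ p - 2 := by
    have hp1 : (2 : ZMod p) ^ p = 2 := by
      have : Fact p.Prime := ⟨F.hp⟩
      exact ZMod.pow_card 2
    have h3 : p ∣ 2 ^ p - 2 := by
      rw [← CharP.cast_eq_zero_iff (ZMod p) p, Nat.cast_sub (by omega)]
      push_cast
      rw [hp1, sub_self]
    have h4 : 2 ∣ 2 ^ p - 2 := by
      obtain ⟨Q, hQ⟩ : ∃ Q : ℕ, 2 ^ p = 2 * Q := by
        refine ⟨2 ^ (p - 1), ?_⟩
        rw [← pow_succ', Nat.sub_add_cancel (by have := F.hp3; omega)]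
      omega
    have h5 : Nat.Coprime 2 p := by
      rw [Nat.coprime_primes Nat.prime_two F.hp]
      have := F.hp3; omega
    obtain ⟨N, hN⟩ := Nat.Coprime.mul_dvd_of_dvd_of_dvd h5 h4 h3
    exact ⟨N, hN.symm⟩
  let S := MulAction.stabilizer H F.bs
  have hrank := RankDich.rank_dichotomy (X := H) (K := K.subgroupOf H) (Ω := Zs H Z F.Znor)
    F.KC' F.bs (by
      intro k hk ω hω
      have hω' : (k : G) * ω.1 * (k : G)⁻¹ = ω.1 := congrArg Subtype.val hω
      have h1 := F.Kfree' ω.2.1 ω.2.2 (Subgroup.mem_subgroupOf.mp hk) (by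
        calc (k : G) * ω.1 = k * ω.1 * (k : G)⁻¹ * k := by group
          _ = ω.1 * k := by rw [hω'])
      exact Subtype.ext h1)
    (by rw [F.card_K', F.card_K, ← F.card_Zne]; rfl)
    (by rw [F.card_K', F.card_K]; omega)
  rcases hrank with hrank | hrank
  · -- two-transitive
    exfalso
    refine F.not_twoTrans ?_
    intro z hz hz1 hzs w hw hw1 hws
    let Q := MulAction.orbitRel.Quotient S (Zs H Z F.Znor)
    let zz : Zs H Z F.Znor := ⟨z, hz, hz1⟩
    let ww : Zs H Z F.Znor := ⟨w, hw, hw1⟩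
    let q0 : Q := Quotient.mk (MulAction.orbitRel S (Zs H Z F.Znor)) F.bs
    let q1 : Q := Quotient.mk (MulAction.orbitRel S (Zs H Z F.Znor)) zz
    let q2 : Q := Quotient.mk (MulAction.orbitRel S (Zs H Z F.Znor)) ww
    have hne : ∀ x : Zs H Z F.Znor, x ≠ F.bs →
        (Quotient.mk (MulAction.orbitRel S (Zs H Z F.Znor)) x : Q) ≠ q0 := by
      intro x hx h
      obtain ⟨g, hg⟩ : x ∈ MulAction.orbit S F.bs := Quotient.exact h
      apply hx
      rw [← hg]
      exact g.2
    have h1 : q1 ≠ q0 := hne zz (fun h => hzs (congrArg Subtype.val h))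
    have h2 : q2 ≠ q0 := hne ww (fun h => hws (congrArg Subtype.val h))
    have h3 : q1 = q2 := by
      by_contra h4
      have : Fintype Q := Fintype.ofFinite Q
      have h5 : ({q0, q1, q2} : Finset Q).card = 3 := by
        rw [Finset.card_eq_three]
        exact ⟨q0, q1, q2, h1.symm, h2.symm, h4, rfl⟩
      have h6 := Finset.card_le_card (Finset.subset_univ ({q0, q1, q2} : Finset Q))
      rw [h5, Finset.card_univ, ← Nat.card_eq_fintype_card] at h6
      have h7 : Nat.card Q = 2 := hrank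
      omega
    obtain ⟨g, hg⟩ : ww ∈ MulAction.orbit S zz := Quotient.exact h3.symm
    refine ⟨((g : H) : G), (F.mem_stab_bs g).mp g.2, ?_⟩
    exact congrArg Subtype.val hg
  · -- the orbits of `P`
    rw [F.card_K', F.card_K] at hrank
    have hr : 2 * N + 1 ≤ Nat.card (MulAction.orbitRel.Quotient S (Zs H Z F.Znor)) := by
      set r := Nat.card (MulAction.orbitRel.Quotient S (Zs H Z F.Znor)) with hr
      have h1 : 2 ^ p - 1 - 1 ≤ (r - 1) * p :=
        hrank.trans (Nat.mul_le_mul_left _ F.card_autz_H)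
      have h2 : 2 * N * p ≤ (r - 1) * p := by
        have e : 2 * N * p = 2 * p * N := by ring
        rw [e, hN]; omega
      have h3 := Nat.le_of_mul_le_mul_right h2 (by omega)
      have h4 : 1 ≤ r := by
        have : Nonempty (MulAction.orbitRel.Quotient S (Zs H Z F.Znor)) :=
          ⟨Quotient.mk (MulAction.orbitRel S (Zs H Z F.Znor)) F.bs⟩
        exact Nat.card_pos
      omega
    have hsub : ∀ a b : Zs H Z F.Znor, MulAction.orbitRel (P.subgroupOf H) (Zs H Z F.Znor) a b →
        MulAction.orbitRel S (Zs H Z F.Znor) a b := by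
      rintro a b ⟨y, hy⟩
      refine ⟨⟨(y : H), ?_⟩, hy⟩
      apply (F.mem_stab_bs y).mpr
      rw [Subgroup.mem_centralizer_singleton_iff]
      exact F.Ps _ (Subgroup.mem_subgroupOf.mp y.2)
    let f : MulAction.orbitRel.Quotient (P.subgroupOf H) (Zs H Z F.Znor) →
        MulAction.orbitRel.Quotient S (Zs H Z F.Znor) := Quotient.map' id hsub
    have hf : Function.Surjective f := by
      intro q
      induction q using Quotient.inductionOn with | _ x => ?_
      exact ⟨Quotient.mk (MulAction.orbitRel (P.subgroupOf H) (Zs H Z F.Znor)) x, rfl⟩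
    have hfin : Finite (MulAction.orbitRel.Quotient (P.subgroupOf H) (Zs H Z F.Znor)) :=
      Quotient.finite _
    have hbij := hf.bijective_of_nat_card_le (by rw [F.card_P_orbits N hN]; exact hr)
    have hgH : g ∈ H := F.cent_s_le hg
    let zz : Zs H Z F.Znor := ⟨z, hz, hz1⟩
    have h1 : f (Quotient.mk (MulAction.orbitRel (P.subgroupOf H) (Zs H Z F.Znor))
          ((⟨g, hgH⟩ : H) • zz)) =
        f (Quotient.mk (MulAction.orbitRel (P.subgroupOf H) (Zs H Z F.Znor)) zz) := by
      apply Quotient.sound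
      show ((⟨g, hgH⟩ : H) • zz) ∈ MulAction.orbit S zz
      exact ⟨⟨⟨g, hgH⟩, (F.mem_stab_bs _).mpr hg⟩, rfl⟩
    have h2 := hbij.1 h1
    obtain ⟨y, hy⟩ : ((⟨g, hgH⟩ : H) • zz) ∈ MulAction.orbit (P.subgroupOf H) zz :=
      Quotient.exact h2
    exact ⟨((y : H) : G), Subgroup.mem_subgroupOf.mp y.2, (congrArg Subtype.val hy).symm⟩

end

end Cfsg.Agent.BenderW3.Frame
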