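import Cfsg.Agent.BenderW3.Counts
import Cfsg.Agent.BenderW3.Eigen
import Cfsg.Agent.PermutationGroups.MultFree
import Cfsg.Agent.S0717

/-!
# Permutation characters
-/

set_option autoImplicit false

open scoped ComplexConjugate
open Cfsg Cfsg.Agent.Characters.Core

namespace Cfsg.Agent.BenderW3.PermG

universe v w

section general

variable {G : Type v} [Group G] [Fintype G] {Ω : Type w} [Fintype Ω] [MulAction G Ω]

/-- the permutation character. -/
noncomputable abbrev pc (G : Type v) [Group G] (Ω : Type w) [MulAction G Ω] : G → ℂ :=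
  fun g : G => (Nat.card (MulAction.fixedBy Ω g) : ℂ)

open scoped Classical in
/-- Frobenius reciprocity for a transitive permutation character. -/
theorem frob [MulAction.IsPretransitive G Ω] (a : Ω) {χ : G → ℂ} (hχ : IsClassFunction G χ) :
    (Nat.card (MulAction.stabilizer G a) : ℂ) * classInner (pc G Ω) χ =
      ∑ g : G with g • a = a, conj (χ g) := by
  have hcl : ∀ x : Ω, ∑ g : G with g • x = x, conj (χ g) = ∑ g : G with g • a = a, conj (χ g) := by
    intro x
    obtain ⟨t, ht⟩ := MulAction.exists_smul_eq G x a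
    refine Finset.sum_bij (fun g _ => t * g * t⁻¹) ?_ ?_ ?_ ?_
    · intro g hg
      rw [Finset.mem_filter] at hg ⊢
      refine ⟨Finset.mem_univ _, ?_⟩
      have h1 : t⁻¹ • a = x := by rw [← ht, inv_smul_smul]
      rw [mul_smul, mul_smul, h1, hg.2, ht]
    · intro g _ g' _ h
      exact mul_left_cancel (mul_right_cancel h)
    · intro g hg
      rw [Finset.mem_filter] at hg
      refine ⟨t⁻¹ * g * t, ?_, by group⟩
      rw [Finset.mem_filter]
      refine ⟨Finset.mem_univ _, ?_⟩
      rw [mul_smul, mul_smul, ht, hg.2, ← ht, inv_smul_smul]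
    · intro g _
      rw [hχ g t]
  have h1 : (Nat.card G : ℂ) * classInner (pc G Ω) χ =
      (Nat.card Ω : ℂ) * ∑ g : G with g • a = a, conj (χ g) := by
    rw [classInner_def, ← mul_assoc, mul_inv_cancel₀ card_ne_zero_complex, one_mul]
    have h2 : ∀ g : G, pc G Ω g * conj (χ g) = ∑ x : Ω, if g • x = x then conj (χ g) else 0 := by
      intro g
      rw [← Finset.sum_filter, Finset.sum_const, nsmul_eq_mul]
      congr 1
      show (Nat.card {x : Ω // g • x = x} : ℂ) = _
      rw [Nat.card_eq_fintype_card, Fintype.card_subtype]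
    rw [Finset.sum_congr rfl fun g _ => h2 g, Finset.sum_comm]
    have h3 : ∀ x : Ω, (∑ g : G, if g • x = x then conj (χ g) else 0) =
        ∑ g : G with g • a = a, conj (χ g) := by
      intro x
      rw [← Finset.sum_filter, hcl x]
    rw [Finset.sum_congr rfl fun x _ => h3 x, Finset.sum_const, nsmul_eq_mul, Finset.card_univ,
      Nat.card_eq_fintype_card]
  have h4 : Nat.card G = Nat.card Ω * Nat.card (MulAction.stabilizer G a) := by
    have := (MulAction.stabilizer G a).card_mul_index
    rw [MulAction.index_stabilizer_of_transitive] at this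
    rw [← this, mul_comm]
  rw [h4] at h1
  push_cast at h1
  have hΩ : (Nat.card Ω : ℂ) ≠ 0 := by
    have : Nonempty Ω := ⟨a⟩
    exact_mod_cast Nat.card_pos.ne'
  rw [mul_assoc] at h1
  exact mul_left_cancel₀ hΩ h1

end general

/-- The set of conjugates of `s`, with the conjugation action. -/
def Cls {G : Type v} [Group G] (s : G) : Type v := {i : G // IsConj s i}

namespace Cls

variable {G : Type v} [Group G] {s : G}

instance : MulAction G (Cls s) where
  smul g i := ⟨g * i.1 * g⁻¹, i.2.trans (isConj_iff.mpr ⟨g, rfl⟩)⟩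
  one_smul i := Subtype.ext (by show (1 : G) * i.1 * (1 : G)⁻¹ = i.1; group)
  mul_smul g h i := Subtype.ext (by
    show (g * h) * i.1 * (g * h)⁻¹ = g * (h * i.1 * h⁻¹) * g⁻¹; group)

theorem smul_val (g : G) (i : Cls s) : (g • i).1 = g * i.1 * g⁻¹ := rfl

instance [Finite G] : Finite (Cls s) := inferInstanceAs (Finite {i : G // IsConj s i})

/-- the base point -/
def base (s : G) : Cls s := ⟨s, IsConj.refl s⟩

instance : MulAction.IsPretransitive G (Cls s) where
  exists_smul_eq x y := by
    obtain ⟨c, hc⟩ := isConj_iff.mp (x.2.symm.trans y.2)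
    exact ⟨c, Subtype.ext hc⟩

theorem stabilizer_base : MulAction.stabilizer G (base s) = Subgroup.centralizer {s} := by
  ext g
  rw [MulAction.mem_stabilizer_iff, Subgroup.mem_centralizer_singleton_iff]
  constructor
  · intro h
    have h1 : g * s * g⁻¹ = s := congrArg Subtype.val h
    calc g * s = g * s * g⁻¹ * g := by group
      _ = s * g := by rw [h1]
  · intro h
    apply Subtype.ext
    show g * s * g⁻¹ = s
    rw [h, mul_inv_cancel_right]

theorem smul_base_iff (g : G) : g • base s = base s ↔ g ∈ Subgroup.centralizer ({s} : Set G) := by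
  rw [← stabilizer_base, MulAction.mem_stabilizer_iff]

end Cls

end Cfsg.Agent.BenderW3.PermG
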