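import Cfsg.Agent.BenderW3.Counts

/-!
# Rigidity of the action of `H` on `Z`

If every orbit of `C_H(s)` on `Z` is an orbit of `P`, then every element of `H` acts on `Z` as an
element of `K P`.
-/

set_option autoImplicit false

open Cfsg

namespace Cfsg.Agent.BenderW3.Frame

universe v

variable {G : Type v} [Group G] {p : ℕ} {H Z K P : Subgroup G} {s u : G}
variable (F : Frame p H Z K P s u)
include F

theorem P_conj_K {y k : G} (hy : y ∈ P) (hk : k ∈ K) : y * k * y⁻¹ ∈ K :=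
  F.Knor y (F.PH hy) (F.PuH y hy) k hk

/-- a nontrivial element of `P` centralizes only `1` in `K`. -/
theorem P_cent_K {y k : G} (hy : y ∈ P) (hy1 : y ≠ 1) (hk : k ∈ K) (h : y * k = k * y) :
    k = 1 := by
  by_contra hk1
  apply hy1
  have h1 : y ∈ Subgroup.centralizer ({k} : Set G) := Subgroup.mem_centralizer_singleton_iff.mpr h
  rw [F.KC k hk hk1] at h1
  exact F.Kfree y h1 (F.Ps y hy)

/-- a nontrivial element of `P` centralizes only `1` and `s` in `Z`. -/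
theorem P_cent_Z {y z : G} (hy : y ∈ P) (hy1 : y ≠ 1) (hz : z ∈ Z) (h : y * z = z * y)
    (hz1 : z ≠ 1) : z = s := by
  obtain ⟨k, hk, rfl⟩ := F.Ktrans z hz hz1
  have h1 : k⁻¹ * (y * k * y⁻¹) = 1 := by
    apply F.Kfree _ (mul_mem (inv_mem hk) (F.P_conj_K hy hk))
    have h2 := F.Ps y hy
    have h3 : y⁻¹ * s = s * y⁻¹ := by
      rw [inv_mul_eq_iff_eq_mul, ← mul_assoc, h2, mul_inv_cancel_right]
    calc k⁻¹ * (y * k * y⁻¹) * s = k⁻¹ * (y * k * (y⁻¹ * s)) := by group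
      _ = k⁻¹ * (y * (k * s * k⁻¹)) * k * y⁻¹ := by rw [h3]; group
      _ = k⁻¹ * (k * s * k⁻¹ * y) * k * y⁻¹ := by rw [h]
      _ = s * (k⁻¹ * (y * k * y⁻¹)) := by group
  have h2 : y * k = k * y := by
    calc y * k = k * (k⁻¹ * (y * k * y⁻¹)) * y := by group
      _ = k * y := by rw [h1, mul_one]
  rw [F.P_cent_K hy hy1 hk h2]
  group

/-- the basic computation. -/
theorem key {c w l y' : G} (hl : l ∈ K) (hw : w = l * s * l⁻¹) (hl1 : l ≠ 1) (hy' : y' ∈ P)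
    (hy'1 : y' ≠ 1) (hcw : c * w * c⁻¹ = y' * w * y'⁻¹)
    {k : G} (hk : k ∈ K) (hk1 : k ≠ 1) (_ : c * (k * s * k⁻¹) * c⁻¹ = k * s * k⁻¹)
    {t : G} (ht : t ∈ P)
    (hct : (k⁻¹ * c * k) * (k⁻¹ * w * k) * (k⁻¹ * c * k)⁻¹ = t * (k⁻¹ * w * k) * t⁻¹) :
    t ≠ 1 ∧ t ≠ y' ∧ k * (t⁻¹ * k⁻¹ * t) = l * ((t⁻¹ * y') * l⁻¹ * (t⁻¹ * y')⁻¹) := by
  set r : G := t⁻¹ * y' with hr
  have hrP : r ∈ P := mul_mem (inv_mem ht) hy'
  set a : G := k * (t⁻¹ * k⁻¹ * t) with ha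
  have haK : a ∈ K := by
    have := F.P_conj_K (inv_mem ht) (inv_mem hk)
    rw [inv_inv] at this
    exact mul_mem hk this
  -- `a r` centralizes `w`
  have h1 : (a * r) * w * (a * r)⁻¹ = w := by
    have h2 : y' * w * y'⁻¹ = k * t * k⁻¹ * w * (k * t * k⁻¹)⁻¹ := by
      rw [← hcw]
      calc c * w * c⁻¹ = k * ((k⁻¹ * c * k) * (k⁻¹ * w * k) * (k⁻¹ * c * k)⁻¹) * k⁻¹ := by group
        _ = k * (t * (k⁻¹ * w * k) * t⁻¹) * k⁻¹ := by rw [hct]
        _ = _ := by group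
    calc (a * r) * w * (a * r)⁻¹ = (k * t⁻¹ * k⁻¹) * (y' * w * y'⁻¹) * (k * t⁻¹ * k⁻¹)⁻¹ := by
          rw [ha, hr]; group
      _ = (k * t⁻¹ * k⁻¹) * (k * t * k⁻¹ * w * (k * t * k⁻¹)⁻¹) * (k * t⁻¹ * k⁻¹)⁻¹ := by rw [h2]
      _ = w := by group
  have h3 : l⁻¹ * a * (r * l * r⁻¹) = 1 := by
    apply F.Kfree _ (mul_mem (mul_mem (inv_mem hl) haK) (F.P_conj_K hrP hl))
    have hrs := F.Ps r hrP
    have hrs' : r⁻¹ * s = s * r⁻¹ := by
      rw [inv_mul_eq_iff_eq_mul, ← mul_assoc, hrs, mul_inv_cancel_right]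
    rw [hw] at h1
    calc l⁻¹ * a * (r * l * r⁻¹) * s = l⁻¹ * a * r * l * (r⁻¹ * s) := by group
      _ = l⁻¹ * ((a * r) * (l * s * l⁻¹) * (a * r)⁻¹) * a * r * l * r⁻¹ := by rw [hrs']; group
      _ = l⁻¹ * (l * s * l⁻¹) * a * r * l * r⁻¹ := by rw [h1]
      _ = s * (l⁻¹ * a * (r * l * r⁻¹)) := by group
  have h4 : a = l * (r * l⁻¹ * r⁻¹) := by
    calc a = l * (l⁻¹ * a * (r * l * r⁻¹)) * (r * l * r⁻¹)⁻¹ := by group
      _ = l * (r * l⁻¹ * r⁻¹) := by rw [h3]; group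
  refine ⟨?_, ?_, h4⟩
  · rintro rfl
    have h5 : a = 1 := by rw [ha]; group
    have h6 : r = y' := by rw [hr]; group
    rw [h5, h6] at h4
    apply hl1
    apply F.P_cent_K hy' hy'1 hl
    calc y' * l = (l * (y' * l⁻¹ * y'⁻¹))⁻¹ * l * y' := by group
      _ = l * y' := by rw [← h4]; group
  · intro h5
    have h6 : r = 1 := by rw [hr, h5]; group
    rw [h6] at h4
    have h7 : a = 1 := by rw [h4]; group
    apply hk1
    have ht1 : t ≠ 1 := by rw [h5]; exact hy'1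
    apply F.P_cent_K ht ht1 hk
    rw [ha] at h7
    calc t * k = t * k * (k * (t⁻¹ * k⁻¹ * t))  := by rw [h7, mul_one]
      _ = t * (k * (t⁻¹ * k⁻¹ * t) * k) := by
        have := F.Kcomm (mul_mem hk (show t⁻¹ * k⁻¹ * t ∈ K by
          have := F.P_conj_K (inv_mem ht) (inv_mem hk)
          rwa [inv_inv] at this)) hk
        rw [this]; group
      _ = t * k := by rw [h7, one_mul]
      _ = k * t := ?_
    have h8 : t⁻¹ * k⁻¹ * t = k⁻¹ := by
      rw [mul_eq_one_iff_inv_eq] at h7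
      exact h7.symm
    calc t * k = t * (k⁻¹)⁻¹ := by rw [inv_inv]
      _ = t * (t⁻¹ * k⁻¹ * t)⁻¹ := by rw [h8]
      _ = k * t := by group

theorem card_V_le [Finite G]
    (horb : ∀ c ∈ Subgroup.centralizer ({s} : Set G), ∀ z ∈ Z, ∃ y ∈ P,
      c * z * c⁻¹ = y * z * y⁻¹)
    {c : G} (hc : c ∈ Subgroup.centralizer ({s} : Set G)) {w : G} (hw : w ∈ Z)
    (hcw : c * w * c⁻¹ ≠ w) :
    Nat.card {x : G // x ∈ Z ∧ x ≠ 1 ∧ x ≠ s ∧ c * x * c⁻¹ = x} + 2 ≤ p := by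
  classical
  have := Fintype.ofFinite G
  obtain ⟨y', hy', hy'w⟩ := horb c hc w hw
  have hy'1 : y' ≠ 1 := by
    rintro rfl
    apply hcw
    rw [hy'w]; group
  have hcs : c * s * c⁻¹ = s := by
    rw [Subgroup.mem_centralizer_singleton_iff] at hc
    rw [hc, mul_inv_cancel_right]
  have hw1 : w ≠ 1 := by
    rintro rfl
    apply hcw; group
  have hws : w ≠ s := by
    rintro rfl
    exact hcw hcs
  obtain ⟨l, hl, hlw⟩ := F.Ktrans w hw hw1
  have hl1 : l ≠ 1 := by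
    rintro rfl
    apply hws
    rw [← hlw]; group
  -- the map
  have hex : ∀ x : {x : G // x ∈ Z ∧ x ≠ 1 ∧ x ≠ s ∧ c * x * c⁻¹ = x}, ∃ t k : G,
      t ∈ P ∧ t ≠ 1 ∧ t ≠ y' ∧ k ∈ K ∧ k * s * k⁻¹ = x.1 ∧
      k * (t⁻¹ * k⁻¹ * t) = l * ((t⁻¹ * y') * l⁻¹ * (t⁻¹ * y')⁻¹) := by
    rintro ⟨x, hx, hx1, hxs, hcx⟩
    obtain ⟨k, hk, rfl⟩ := F.Ktrans x hx hx1
    have hk1 : k ≠ 1 := by
      rintro rfl
      apply hxs; group
    have hcc : k⁻¹ * c * k ∈ Subgroup.centralizer ({s} : Set G) := by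
      rw [Subgroup.mem_centralizer_singleton_iff]
      calc k⁻¹ * c * k * s = k⁻¹ * (c * (k * s * k⁻¹) * c⁻¹) * c * k := by group
        _ = k⁻¹ * (k * s * k⁻¹) * c * k := by rw [hcx]
        _ = s * (k⁻¹ * c * k) := by group
    have hwz : k⁻¹ * w * k ∈ Z := by
      have := F.Znor k⁻¹ (inv_mem (F.KH hk)) w hw
      rwa [inv_inv] at this
    obtain ⟨t, ht, htw⟩ := horb _ hcc _ hwz
    obtain ⟨h1, h2, h3⟩ := F.key hl hlw.symm hl1 hy' hy'1 hy'w hk hk1 hcx ht htw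
    exact ⟨t, k, ht, h1, h2, hk, rfl, h3⟩
  choose t k ht ht1 hty hk hkx heq using hex
  have hinj : Function.Injective (fun x => (⟨t x, ht x, ht1 x, hty x⟩ :
      {t : G // t ∈ P ∧ t ≠ 1 ∧ t ≠ y'})) := by
    intro x x' hxx
    have h1 : t x = t x' := congrArg Subtype.val hxx
    have h2 := heq x
    have h3 := heq x'
    rw [← h1, ← h2] at h3
    have h4 : (k x)⁻¹ * k x' = 1 := by
      apply F.P_cent_K (ht x) (ht1 x) (mul_mem (inv_mem (hk x)) (hk x'))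
      have h5 : (k x)⁻¹ * k x' = (t x)⁻¹ * ((k x)⁻¹ * k x') * t x := by
        have h6 : ((t x)⁻¹ * (k x')⁻¹ * t x) ∈ K := by
          have := F.P_conj_K (inv_mem (ht x)) (inv_mem (hk x'))
          rwa [inv_inv] at this
        calc (k x)⁻¹ * k x' = (k x)⁻¹ * (k x' * ((t x)⁻¹ * (k x')⁻¹ * t x)) *
              ((t x)⁻¹ * k x' * t x) := by group
          _ = (k x)⁻¹ * (k x * ((t x)⁻¹ * (k x)⁻¹ * t x)) * ((t x)⁻¹ * k x' * t x) := by rw [h3]
          _ = (t x)⁻¹ * ((k x)⁻¹ * k x') * t x := by group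
      calc t x * ((k x)⁻¹ * k x') = t x * ((t x)⁻¹ * ((k x)⁻¹ * k x') * t x) := by rw [← h5]
        _ = (k x)⁻¹ * k x' * t x := by group
    apply Subtype.ext
    rw [← hkx x, ← hkx x', inv_mul_eq_one.mp h4]
  have hle := Nat.card_le_card_of_injective _ hinj
  -- the number of elements of `P` different from `1`, `y'`
  have hcard : Nat.card {t : G // t ∈ P ∧ t ≠ 1 ∧ t ≠ y'} + 2 = p := by
    have h1 : Nat.card P = (Finset.univ.filter (· ∈ P)).card := by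
      rw [Nat.card_eq_fintype_card]
      exact Fintype.card_subtype (· ∈ P)
    have h2 : Nat.card {t : G // t ∈ P ∧ t ≠ 1 ∧ t ≠ y'} =
        (((Finset.univ.filter (· ∈ P)).erase 1).erase y').card := by
      rw [Nat.card_eq_fintype_card, Fintype.card_subtype]
      congr 1
      ext z
      simp only [Finset.mem_filter, Finset.mem_univ, true_and, Finset.mem_erase]
      tauto
    rw [h2, ← F.cardP, h1, Finset.card_erase_of_mem, Finset.card_erase_of_mem]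
    · have h3 : 2 ≤ (Finset.univ.filter (· ∈ P)).card := by
        rw [← h1, F.cardP]; have := F.hp3; omega
      omega
    · simp [one_mem]
    · simp [hy', hy'1]
  omega

theorem pow_bound [Finite G] : p * (p - 2) < 2 ^ p - 2 := by
  have h3 := F.hp3
  rcases Nat.lt_or_ge p 5 with h | h
  · interval_cases p
    · norm_num
    · exact absurd F.hp (by norm_num)
  · have h1 := Numerics.pow_gt p h
    have h2 : p * (p - 2) ≤ p * (p - 1) := Nat.mul_le_mul_left _ (by omega)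
    omega

/-- (A'): the elements of `C_G(s)` act on `Z` as elements of `P`. -/
theorem exists_P [Finite G]
    (horb : ∀ c ∈ Subgroup.centralizer ({s} : Set G), ∀ z ∈ Z, ∃ y ∈ P,
      c * z * c⁻¹ = y * z * y⁻¹)
    {c : G} (hc : c ∈ Subgroup.centralizer ({s} : Set G)) :
    ∃ y ∈ P, ∀ z ∈ Z, c * z * c⁻¹ = y * z * y⁻¹ := by
  classical
  have := Fintype.ofFinite G
  by_contra hcon
  push Not at hcon
  have hV : ∀ y ∈ P, Nat.card {x : G // x ∈ Z ∧ x ≠ 1 ∧ x ≠ s ∧ c * x * c⁻¹ = y * x * y⁻¹} + 2 ≤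
      p := by
    intro y hy
    obtain ⟨w, hw, hcw⟩ := hcon y hy
    have hyc : y⁻¹ * c ∈ Subgroup.centralizer ({s} : Set G) :=
      mul_mem (inv_mem (Subgroup.mem_centralizer_singleton_iff.mpr (F.Ps y hy))) hc
    have h1 := F.card_V_le horb hyc hw (by
      intro h
      apply hcw
      calc c * w * c⁻¹ = y * (y⁻¹ * c * w * (y⁻¹ * c)⁻¹) * y⁻¹ := by group
        _ = y * w * y⁻¹ := by rw [h])
    have h2 : Nat.card {x : G // x ∈ Z ∧ x ≠ 1 ∧ x ≠ s ∧ c * x * c⁻¹ = y * x * y⁻¹} =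
        Nat.card {x : G // x ∈ Z ∧ x ≠ 1 ∧ x ≠ s ∧ y⁻¹ * c * x * (y⁻¹ * c)⁻¹ = x} := by
      refine Nat.card_congr (Equiv.subtypeEquivRight fun x => ?_)
      refine and_congr_right fun _ => and_congr_right fun _ => and_congr_right fun _ => ?_
      constructor
      · intro h
        calc y⁻¹ * c * x * (y⁻¹ * c)⁻¹ = y⁻¹ * (c * x * c⁻¹) * y := by group
          _ = x := by rw [h]; group
      · intro h
        calc c * x * c⁻¹ = y * (y⁻¹ * c * x * (y⁻¹ * c)⁻¹) * y⁻¹ := by group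
          _ = y * x * y⁻¹ := by rw [h]
    rw [h2]; exact h1
  -- total count
  have h0 : 2 ^ p - 2 ≤ ∑ y ∈ Finset.univ.filter (· ∈ P),
      (Finset.univ.filter fun x : G => x ∈ Z ∧ x ≠ 1 ∧ x ≠ s ∧ c * x * c⁻¹ = y * x * y⁻¹).card := by
    refine le_trans ?_ Finset.card_biUnion_le
    have hZ : (((Finset.univ.filter (· ∈ Z)).erase 1).erase s).card = 2 ^ p - 2 := by
      rw [Finset.card_erase_of_mem, Finset.card_erase_of_mem]
      · have h1 : Nat.card Z = (Finset.univ.filter (· ∈ Z)).card := by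
          rw [Nat.card_eq_fintype_card]
          exact Fintype.card_subtype (· ∈ Z)
        rw [← h1, F.cardZ]
        omega
      · simp [one_mem]
      · simp [F.hs, F.hs1]
    rw [← hZ]
    refine Finset.card_le_card ?_
    intro x hx
    simp only [Finset.mem_erase, Finset.mem_filter, Finset.mem_univ, true_and] at hx
    obtain ⟨y, hy, hyx⟩ := horb c hc x hx.2.2
    rw [Finset.mem_biUnion]
    refine ⟨y, by simp [hy], ?_⟩
    simp only [Finset.mem_filter, Finset.mem_univ, true_and]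
    exact ⟨hx.2.2, hx.2.1, hx.1, hyx⟩
  have h1 : ∀ y ∈ Finset.univ.filter (· ∈ P),
      (Finset.univ.filter fun x : G => x ∈ Z ∧ x ≠ 1 ∧ x ≠ s ∧
        c * x * c⁻¹ = y * x * y⁻¹).card ≤ p - 2 := by
    intro y hy
    simp only [Finset.mem_filter, Finset.mem_univ, true_and] at hy
    have h2 := hV y hy
    rw [Nat.card_eq_fintype_card, Fintype.card_subtype] at h2
    omega
  have h2 := Finset.sum_le_card_nsmul _ _ _ h1
  have h3 : (Finset.univ.filter (· ∈ P)).card = p := by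
    rw [← F.cardP, Nat.card_eq_fintype_card]
    exact (Fintype.card_subtype (· ∈ P)).symm
  rw [h3, smul_eq_mul] at h2
  have := F.pow_bound
  omega

/-- the elements of `H` act on `Z` as elements of `K P`. -/
theorem exists_KP [Finite G]
    (horb : ∀ c ∈ Subgroup.centralizer ({s} : Set G), ∀ z ∈ Z, ∃ y ∈ P,
      c * z * c⁻¹ = y * z * y⁻¹)
    {h : G} (hh : h ∈ H) :
    ∃ k ∈ K, ∃ y ∈ P, ∀ z ∈ Z, h * z * h⁻¹ = (k * y) * z * (k * y)⁻¹ := by
  have h1 := F.Znor h hh s F.hs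
  have h2 : h * s * h⁻¹ ≠ 1 := by
    intro h2
    apply F.hs1
    calc s = h⁻¹ * (h * s * h⁻¹) * h := by group
      _ = 1 := by rw [h2]; group
  obtain ⟨k, hk, hks⟩ := F.Ktrans _ h1 h2
  have hc : k⁻¹ * h ∈ Subgroup.centralizer ({s} : Set G) := by
    rw [Subgroup.mem_centralizer_singleton_iff]
    calc k⁻¹ * h * s = k⁻¹ * (h * s * h⁻¹) * h := by group
      _ = k⁻¹ * (k * s * k⁻¹) * h := by rw [hks]
      _ = s * (k⁻¹ * h) := by group
  obtain ⟨y, hy, hyz⟩ := F.exists_P horb hc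
  refine ⟨k, hk, y, hy, fun z hz => ?_⟩
  have h3 := hyz z hz
  calc h * z * h⁻¹ = k * (k⁻¹ * h * z * (k⁻¹ * h)⁻¹) * k⁻¹ := by group
    _ = k * (y * z * y⁻¹) * k⁻¹ := by rw [h3]
    _ = _ := by group

end Cfsg.Agent.BenderW3.Frame
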