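import Cfsg.Agent.BenderW3.SingerA
import Cfsg.Agent.BenderW3.ClPOfFrame
import Cfsg.Agent.SuzukiRankOne.SingerField

/-!
# The Singer cycle of the two-point stabilizer

In a frame in which `D = G_a ∩ G_b` is faithful on `E a`, the elements of `D` inverted by an
involution `w` interchanging `a` and `b` form a cyclic normal subgroup `K` of `D`, regular on the
nontrivial elements of `E a`, whose nontrivial elements fix only `a` and `b`. The centralizer `V` in
`D` of an involution of `E a` acts on `E a` as a group of field automorphisms.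
-/

set_option autoImplicit false

namespace Cfsg.Agent.BenderW3.Singer

open MulAction Cfsg.Agent.StrongEmb.Basic Cfsg.Agent.TwoFusion.StronglyEmbeddedBasic
open Cfsg.Agent.BenderW3.Setup Cfsg.Agent.BenderW3.SingerA

/-- The Singer cycle. -/
structure IsSinger {G Ω : Type*} [Group G] [MulAction G Ω] (a b : Ω) (w : G) (K : Subgroup G) :
    Prop where
  mem_iff : ∀ k, k ∈ K ↔ k • a = a ∧ k • b = b ∧ w * k * w⁻¹ = k⁻¹
  cyclic : IsCyclic K
  comm : ∀ x ∈ K, ∀ y ∈ K, x * y = y * x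
  normal : ∀ d : G, d • a = a → d • b = b → ∀ k ∈ K, d * k * d⁻¹ ∈ K
  free : ∀ k ∈ K, ∀ e ∈ E G a, e ≠ 1 → k * e = e * k → k = 1
  reg : ∀ s ∈ E G a, s ≠ 1 → ∀ t ∈ E G a, t ≠ 1 → ∃ k ∈ K, k * s * k⁻¹ = t
  card : Nat.card K + 1 = Nat.card (E G a)
  fix : ∀ k ∈ K, k ≠ 1 → ∀ x : Ω, k • x = x → x = a ∨ x = b
  /-- `K` contains its centralizer in `D` -/
  cent : ∀ d : G, d • a = a → d • b = b → (∀ k ∈ K, d * k = k * d) → d ∈ K
  /-- `D / K` is abelian -/
  comm_mem : ∀ c d : G, c • a = a → c • b = b → d • a = a → d • b = b → c * d * c⁻¹ * d⁻¹ ∈ K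

/-- Ring automorphisms of a field of characteristic two are automorphisms over `ZMod 2`. -/
theorem exists_gal_equiv (F : Type*) [Field F] [Fintype F] [CharP F 2] [Algebra (ZMod 2) F] :
    ∃ f : (F ≃ₐ[ZMod 2] F) ≃* (F ≃+* F), ∀ (τ : F ≃ₐ[ZMod 2] F) (x : F), f τ x = τ x := by
  refine ⟨MulEquiv.mk' (Equiv.mk (fun τ => (τ : F ≃+* F)) (fun σ => AlgEquiv.ofRingEquiv (f := σ)
    (fun r => ?_)) (fun τ => ?_) (fun σ => ?_)) (fun τ τ' => ?_), fun τ x => rfl⟩
  · exact congrArg (fun g : ZMod 2 →+* F => g r)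
      (Subsingleton.elim ((σ : F →+* F).comp (algebraMap (ZMod 2) F)) (algebraMap (ZMod 2) F))
  · ext x; rfl
  · ext x; rfl
  · ext x; rfl

theorem card_fixed_pow {F : Type*} [Field F] [Fintype F] [CharP F 2] (σ : F ≃+* F) :
    (Nat.card {x : F // σ x = x}) ^ (orderOf σ) = Nat.card F := by
  classical
  let _ : Algebra (ZMod 2) F := ZMod.algebra F 2
  obtain ⟨f, hf⟩ := exists_gal_equiv F
  obtain ⟨τ, rfl⟩ := f.surjective σ
  rw [MulEquiv.orderOf_eq]
  have h1 := IntermediateField.finrank_fixedField_eq_card (Subgroup.zpowers τ)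
  rw [Nat.card_zpowers] at h1
  have h2 : Nat.card {x : F // f τ x = x} =
      Nat.card (IntermediateField.fixedField (Subgroup.zpowers τ)) := by
    refine Nat.card_congr (Equiv.subtypeEquivRight fun x => ?_)
    rw [hf]
    constructor
    · rintro hx ⟨g, hg⟩
      have h3 : Subgroup.zpowers τ ≤ MulAction.stabilizer (F ≃ₐ[ZMod 2] F) x := by
        rw [Subgroup.zpowers_le]; exact hx
      exact h3 hg
    · intro hx
      exact hx ⟨τ, Subgroup.mem_zpowers τ⟩
  rw [h2, ← h1]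
  exact (Module.natCard_eq_pow_finrank).symm

theorem isCyclic_ringEquiv (F : Type*) [Field F] [Fintype F] [CharP F 2] :
    IsCyclic (F ≃+* F) := by
  let _ : Algebra (ZMod 2) F := ZMod.algebra F 2
  obtain ⟨f, hf⟩ := exists_gal_equiv F
  exact isCyclic_of_surjective f f.surjective

theorem card_ringEquiv (F : Type*) [Field F] [Fintype F] [CharP F 2] {e : ℕ}
    (he : Nat.card F = 2 ^ e) : Nat.card (F ≃+* F) = e := by
  let _ : Algebra (ZMod 2) F := ZMod.algebra F 2
  obtain ⟨f, hf⟩ := exists_gal_equiv F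
  rw [← Nat.card_congr f.toEquiv, IsGalois.card_aut_eq_finrank]
  have h1 := Module.natCard_eq_pow_finrank (K := ZMod 2) (V := F)
  rw [he, Nat.card_zmod] at h1
  exact (Nat.pow_right_injective (le_refl 2) h1).symm
section

variable {G Ω : Type*} [Group G] [MulAction G Ω]

/-- An element of odd order is the square of a power of itself. -/
theorem exists_sq_root {x : G} (hx : Odd (orderOf x)) : ∃ n : ℕ, x ^ n * x ^ n = x := by
  obtain ⟨k, hk⟩ := hx
  refine ⟨k + 1, ?_⟩
  rw [← pow_add]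
  calc x ^ (k + 1 + (k + 1)) = x ^ (2 * k + 1) * x := by rw [← pow_succ]; congr 1; ring
    _ = x := by rw [← hk, pow_orderOf_eq_one, one_mul]

/-- An element of odd order whose square commutes with `y` commutes with `y`. -/
theorem commute_of_sq {x y : G} (hx : Odd (orderOf x)) (h : Commute (x * x) y) : Commute x y := by
  obtain ⟨n, hn⟩ := exists_sq_root hx
  have h1 : x ^ n * x ^ n = (x * x) ^ n := by rw [← pow_two, ← pow_two, ← pow_mul, ← pow_mul, mul_comm]
  have h2 : Commute ((x * x) ^ n) y := h.pow_left n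
  rw [← h1, hn] at h2
  exact h2

variable [Finite G]

theorem odd_orderOf_of_fix (h : Frame G Ω) {a b : Ω} (hab : a ≠ b) {d : G} (ha : d • a = a)
    (hb : d • b = b) : Odd (orderOf d) := by
  have h1 := h.uniq.odd_of_fixes_two hab (stabilizer G a ⊓ stabilizer G b)
    (fun d hd => hd.1) (fun d hd => hd.2)
  have h2 : orderOf d ∣ Nat.card ↥(stabilizer G a ⊓ stabilizer G b) := by
    have h3 := orderOf_dvd_natCard (⟨d, ha, hb⟩ : ↥(stabilizer G a ⊓ stabilizer G b))
    rwa [← Subgroup.orderOf_coe] at h3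
  exact Odd.of_dvd_nat h1 h2

/-- A nontrivial element of `D` inverted by `w` fixes only `a` and `b`. -/
theorem fix_of_inverted (h : Frame G Ω) {a b : Ω} (hab : a ≠ b) {w : G} (hw : orderOf w = 2)
    (hwa : w • a = b) {s : G} (hs : orderOf s = 2) {k : G} (hka : k • a = a) (hkb : k • b = b)
    (hk : w * k * w⁻¹ = k⁻¹) (hk1 : k ≠ 1) {x : Ω} (hx : k • x = x) : x = a ∨ x = b := by
  by_contra hcon
  push Not at hcon
  obtain ⟨hxa, hxb⟩ := hcon
  have hwb : w • b = a := smul_of_involution hw hwa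
  have hord : orderOf k ≠ 1 := fun e => hk1 (orderOf_eq_one_iff.mp e)
  obtain ⟨p, hp, hpk⟩ := Nat.exists_prime_and_dvd hord
  obtain ⟨m, hm⟩ := hpk
  have hpos : 0 < orderOf k := orderOf_pos k
  have hm0 : 0 < m := by
    rcases Nat.eq_zero_or_pos m with h0 | h0
    · rw [h0, mul_zero] at hm; omega
    · exact h0
  have hk' : orderOf (k ^ m) = p := by
    rw [orderOf_pow_of_dvd hm0.ne' ⟨p, by rw [hm, mul_comm]⟩, hm, Nat.mul_div_cancel _ hm0]
  set k' := k ^ m with hk'def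
  have hk'1 : k' ≠ 1 := fun e => by rw [e, orderOf_one] at hk'; exact hp.one_lt.ne hk'
  have hfix : ∀ y : Ω, k • y = y → ∀ g ∈ Subgroup.zpowers k', g • y = y := by
    intro y hy g hg
    have h1 : Subgroup.zpowers k' ≤ stabilizer G y := by
      rw [Subgroup.zpowers_le, hk'def]
      exact Subgroup.pow_mem _ (mem_stabilizer_iff.mpr hy) m
    exact h1 hg
  have hPp : IsPGroup p (Subgroup.zpowers k') := by
    refine IsPGroup.of_card (n := 1) ?_
    rw [Nat.card_zpowers, hk', pow_one]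
  have hPne : Subgroup.zpowers k' ≠ ⊥ := by
    rw [Ne, Subgroup.zpowers_eq_bot]; exact hk'1
  obtain ⟨u, hu, hu2, hua⟩ := Cfsg.Agent.BenderW3.ClPOfFrame.clP_of_frame h hs p
    (Subgroup.zpowers k') hp hPp hPne a b x hab (Ne.symm hxa) (Ne.symm hxb) (hfix a hka)
    (hfix b hkb) (hfix x hx)
  have huk : u * k' = k' * u :=
    (Subgroup.mem_centralizer_iff.mp hu k' (Subgroup.mem_zpowers k')).symm
  have hub : u • b = a := smul_of_involution hu2 hua
  have hwk : w * k' * w⁻¹ = k'⁻¹ := by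
    rw [hk'def, ← conj_pow, hk, inv_pow]
  have hda : (u * w) • a = a := by rw [mul_smul, hwa, hub]
  have hdb : (u * w) • b = b := by rw [mul_smul, hwb, hua]
  have hd : (u * w) * k' * (u * w)⁻¹ = k'⁻¹ := by
    calc (u * w) * k' * (u * w)⁻¹ = u * (w * k' * w⁻¹) * u⁻¹ := by group
      _ = (u * k' * u⁻¹)⁻¹ := by rw [hwk]; group
      _ = k'⁻¹ := by rw [huk]; group
  have hodd := odd_orderOf_of_fix h hab hda hdb
  have hcomm2 : Commute ((u * w) * (u * w)) k' := by
    have e : (u * w) * (u * w) * k' * ((u * w) * (u * w))⁻¹ = k' := by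
      calc (u * w) * (u * w) * k' * ((u * w) * (u * w))⁻¹
          = (u * w) * ((u * w) * k' * (u * w)⁻¹) * (u * w)⁻¹ := by group
        _ = (u * w) * k'⁻¹ * (u * w)⁻¹ := by rw [hd]
        _ = ((u * w) * k' * (u * w)⁻¹)⁻¹ := by group
        _ = k' := by rw [hd, inv_inv]
    exact mul_inv_eq_iff_eq_mul.mp e
  have hcomm := commute_of_sq hodd hcomm2
  have h1 : k' = k'⁻¹ := by
    rw [← hd, hcomm.eq]; group
  have h2 : k' * k' = 1 := by
    nth_rewrite 2 [h1]; rw [mul_inv_cancel]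
  have hk'odd : Odd (orderOf k') := odd_orderOf_of_fix h hab (hfix a hka _ (Subgroup.mem_zpowers _))
    (hfix b hkb _ (Subgroup.mem_zpowers _))
  obtain ⟨n, hn⟩ := exists_sq_root hk'odd
  apply hk'1
  calc k' = k' ^ n * k' ^ n := hn.symm
    _ = (k' * k') ^ n := ((Commute.refl k').mul_pow n).symm
    _ = 1 := by rw [h2, one_pow]

/-- **The Singer cycle.** -/
theorem exists_singer (h : Frame G Ω) {a b : Ω} (hab : a ≠ b) {w : G}
    (hw : orderOf w = 2) (hwa : w • a = b) {s : G} (hs : orderOf s = 2) (hsa : s • a = a)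
    (hY : ∀ d : G, d • a = a → d • b = b → (∀ e ∈ E G a, d * e = e * d) → d = 1) :
    ∃ K : Subgroup G, IsSinger a b w K := by
  obtain ⟨F, hFD, hFcyc, hFn, hFw, hFfree, hFcent, hFcomm⟩ := exists_F h hab hw hwa hs hsa hY
  have hww := mul_self_of_orderOf hw
  have hwi := inv_eq_self_of_orderOf hw
  have hFc : ∀ x ∈ F, ∀ y ∈ F, x * y = y * x := by
    intro x hx y hy
    have hc := hFcyc.commGroup.mul_comm
    exact congrArg Subtype.val (hc ⟨x, hx⟩ ⟨y, hy⟩)
  let K : Subgroup G :=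
    { carrier := {x | x ∈ F ∧ w * x * w⁻¹ = x⁻¹}
      mul_mem' := by
        rintro x y ⟨hx, hx'⟩ ⟨hy, hy'⟩
        refine ⟨F.mul_mem hx hy, ?_⟩
        calc w * (x * y) * w⁻¹ = (w * x * w⁻¹) * (w * y * w⁻¹) := by group
          _ = (y * x)⁻¹ := by rw [hx', hy', mul_inv_rev]
          _ = (x * y)⁻¹ := by rw [hFc y hy x hx]
      one_mem' := ⟨F.one_mem, by group⟩
      inv_mem' := by
        rintro x ⟨hx, hx'⟩
        refine ⟨F.inv_mem hx, ?_⟩
        calc w * x⁻¹ * w⁻¹ = (w * x * w⁻¹)⁻¹ := by group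
          _ = x⁻¹⁻¹ := by rw [hx'] }
  have hK : ∀ x, x ∈ K ↔ x ∈ F ∧ w * x * w⁻¹ = x⁻¹ := fun x => Iff.rfl
  have hKF : K ≤ F := fun x hx => hx.1
  have hcyc : IsCyclic K := by
    have := hFcyc
    exact isCyclic_of_injective (Subgroup.inclusion hKF) (Subgroup.inclusion_injective hKF)
  have hmem : ∀ k, k ∈ K ↔ k • a = a ∧ k • b = b ∧ w * k * w⁻¹ = k⁻¹ := by
    intro k
    constructor
    · rintro ⟨h1, h2⟩
      exact ⟨(hFD k h1).1, (hFD k h1).2, h2⟩
    · rintro ⟨hka, hkb, hk⟩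
      refine ⟨?_, hk⟩
      obtain ⟨n, hn⟩ := exists_sq_root (odd_orderOf_of_fix h hab hka hkb)
      set m := k ^ n with hm
      have hma : m • a = a := (Subgroup.pow_mem (stabilizer G a) hka n)
      have hmb : m • b = b := (Subgroup.pow_mem (stabilizer G b) hkb n)
      have hwm : w * m * w⁻¹ = m⁻¹ := by rw [hm, ← conj_pow, hk, inv_pow]
      have hkm : k = m * w * m⁻¹ * w⁻¹ := by
        calc k = m * (m⁻¹)⁻¹ := by rw [inv_inv, hn]
          _ = m * (w * m * w⁻¹)⁻¹ := by rw [hwm]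
          _ = m * w * m⁻¹ * w⁻¹ := by group
      refine hFcent k hka hkb (fun x hx => ?_)
      have hm' : ∀ x ∈ F, m⁻¹ * x * m ∈ F := by
        intro x hx
        have := hFn m⁻¹ (inv_smul_eq_iff.mpr hma.symm) (inv_smul_eq_iff.mpr hmb.symm) x hx
        rwa [inv_inv] at this
      have hw' : ∀ x ∈ F, w⁻¹ * x * w ∈ F := by
        intro x hx
        have := hFw x hx
        rw [hwi] at this ⊢
        exact this
      have h1 := conj_conj_comm hFcyc (hFn m hma hmb) hFw (m⁻¹ * (w⁻¹ * x * w) * m)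
        (hm' _ (hw' x hx))
      have h2 : k * x * k⁻¹ = x := by
        calc k * x * k⁻¹ = m * (w * (m⁻¹ * (w⁻¹ * x * w) * m) * w⁻¹) * m⁻¹ := by
              rw [hkm]; group
          _ = w * (m * (m⁻¹ * (w⁻¹ * x * w) * m) * m⁻¹) * w⁻¹ := h1
          _ = x := by group
      exact mul_inv_eq_iff_eq_mul.mp h2
  have hfree : ∀ k ∈ K, ∀ e ∈ E G a, e ≠ 1 → k * e = e * k → k = 1 :=
    fun k hk e he he1 hke => hFfree k hk.1 e he he1 hke
  have hordE : ∀ e ∈ E G a, e ≠ 1 → orderOf e = 2 := fun e he he1 =>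
    orderOf_eq_two_of_mul_self (h.mem_E.mp he).1 he1
  have hreg : ∀ s ∈ E G a, s ≠ 1 → ∀ t ∈ E G a, t ≠ 1 → ∃ k ∈ K, k * s * k⁻¹ = t := by
    intro s hs hs1 t ht ht1
    obtain ⟨d, hda, hdb, hd, hdt⟩ := exists_conj_inverted h hab hw hwa (hordE s hs hs1)
      (h.mem_E.mp hs).2 (hordE t ht ht1) (h.mem_E.mp ht).2
    exact ⟨d, (hmem d).mpr ⟨hda, hdb, hd⟩, hdt⟩
  have hs1 : s ≠ 1 := fun e => by rw [e, orderOf_one] at hs; exact absurd hs (by norm_num)
  have hsE : s ∈ E G a := h.mem_E_of_orderOf hs hsa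
  have hcent : ∀ d : G, d • a = a → d • b = b → (∀ k ∈ K, d * k = k * d) → d ∈ K := by
    intro d hda hdb hd
    have h1 : d * s * d⁻¹ ≠ 1 := by
      intro e
      apply hs1
      calc s = d⁻¹ * (d * s * d⁻¹) * d := by group
        _ = 1 := by rw [e]; group
    obtain ⟨k, hk, hks⟩ := hreg s hsE hs1 _ (h.conj_mem_E' hsE hda) h1
    obtain ⟨hka, hkb, -⟩ := (hmem k).mp hk
    have h2 : k⁻¹ * d * s = s * (k⁻¹ * d) := by
      calc k⁻¹ * d * s = k⁻¹ * (d * s * d⁻¹) * d := by group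
        _ = s * (k⁻¹ * d) := by rw [← hks]; group
    have h3 : k⁻¹ * d = 1 := by
      refine hY _ ?_ ?_ (fun e he => ?_)
      · rw [mul_smul, hda, inv_smul_eq_iff, hka]
      · rw [mul_smul, hdb, inv_smul_eq_iff, hkb]
      · by_cases he1 : e = 1
        · rw [he1, mul_one, one_mul]
        · obtain ⟨l, hl, hle⟩ := hreg s hsE hs1 e he he1
          have h4 : k⁻¹ * d * l = l * (k⁻¹ * d) := by
            rw [mul_assoc, hd l hl, ← mul_assoc, hFc _ (F.inv_mem hk.1) l hl.1, mul_assoc]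
          calc k⁻¹ * d * e = (k⁻¹ * d * l) * s * l⁻¹ := by rw [← hle]; group
            _ = l * (k⁻¹ * d * s) * l⁻¹ := by rw [h4]; group
            _ = l * s * (k⁻¹ * d * l⁻¹) := by rw [h2]; group
            _ = l * s * (l⁻¹ * (k⁻¹ * d)) := by
              congr 1
              calc k⁻¹ * d * l⁻¹ = l⁻¹ * (l * (k⁻¹ * d)) * l⁻¹ := by group
                _ = l⁻¹ * (k⁻¹ * d) := by rw [← h4]; group
            _ = e * (k⁻¹ * d) := by rw [← hle]; group
    rw [inv_mul_eq_one.mp h3] at hk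
    exact hk
  have hFK : F ≤ K := by
    intro x hx
    exact hcent x (hFD x hx).1 (hFD x hx).2 (fun k hk => hFc x hx k hk.1)
  refine ⟨K, hmem, hcyc, fun x hx y hy => hFc x hx.1 y hy.1, ?_, hfree, hreg, ?_, ?_, ?_, ?_⟩
  · intro d hda hdb k hk
    refine ⟨hFn d hda hdb k hk.1, ?_⟩
    have h1 := conj_conj_comm hFcyc (hFn d hda hdb) hFw k hk.1
    rw [← h1, hk.2]
    group
  · have hf : ∀ k : K, (k : G) * s * (k : G)⁻¹ ∈ E G a := fun k =>
      h.conj_mem_E' hsE ((hmem k).mp k.2).1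
    let f : Option K → E G a := fun o => o.elim 1 (fun k => ⟨(k : G) * s * (k : G)⁻¹, hf k⟩)
    have hfb : Function.Bijective f := by
      constructor
      · rintro (_ | x) (_ | y) hxy
        · rfl
        · exfalso
          have h1 : (1 : G) = y * s * (y : G)⁻¹ := congrArg Subtype.val hxy
          apply hs1
          calc s = (y : G)⁻¹ * (y * s * (y : G)⁻¹) * y := by group
            _ = 1 := by rw [← h1]; group
        · exfalso
          have h1 : x * s * (x : G)⁻¹ = (1 : G) := congrArg Subtype.val hxy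
          apply hs1
          calc s = (x : G)⁻¹ * (x * s * (x : G)⁻¹) * x := by group
            _ = 1 := by rw [h1]; group
        · have h1 : (x : G) * s * (x : G)⁻¹ = y * s * (y : G)⁻¹ := congrArg Subtype.val hxy
          have h2 : (y : G)⁻¹ * x * s = s * ((y : G)⁻¹ * x) := by
            calc (y : G)⁻¹ * x * s = (y : G)⁻¹ * ((x : G) * s * (x : G)⁻¹) * x := by group
              _ = s * ((y : G)⁻¹ * x) := by rw [h1]; group
          have h3 := hfree _ (K.mul_mem (K.inv_mem y.2) x.2) s hsE hs1 h2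
          have h4 : x = y := Subtype.ext (inv_mul_eq_one.mp h3).symm
          rw [h4]
      · rintro ⟨t, ht⟩
        by_cases ht1 : t = 1
        · exact ⟨none, Subtype.ext ht1.symm⟩
        · obtain ⟨k, hk, hkt⟩ := hreg s hsE hs1 t ht ht1
          exact ⟨some ⟨k, hk⟩, Subtype.ext hkt⟩
    rw [← Nat.card_eq_of_bijective f hfb, Finite.card_option]
  · intro k hk hk1 x hx
    obtain ⟨h1, h2, h3⟩ := (hmem k).mp hk
    exact fix_of_inverted h hab hw hwa hs h1 h2 h3 hk1 hx
  · exact hcent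
  · intro c d hca hcb hda hdb
    exact hFK (hFcomm c d hca hcb hda hdb)

/-- **The field automorphisms**. -/
theorem exists_galois (h : Frame G Ω) {a b : Ω} {w : G} {K : Subgroup G}
    (hK : IsSinger a b w K)
    (hY : ∀ d : G, d • a = a → d • b = b → (∀ e ∈ E G a, d * e = e * d) → d = 1)
    {t : G} (ht : t ∈ E G a) (ht1 : t ≠ 1) {V : Subgroup G}
    (hV : ∀ v, v ∈ V ↔ v • a = a ∧ v • b = b ∧ v * t = t * v) :
    ∃ (F : Type) (_ : Field F) (_ : Fintype F) (_ : CharP F 2) (δ : F → G) (σ : V →* (F ≃+* F)),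
      Function.Injective δ ∧ (∀ e, e ∈ E G a ↔ ∃ c, δ c = e) ∧
      (∀ (v : V) (c : F), δ (σ v c) = (v : G) * δ c * (v : G)⁻¹) ∧ Function.Injective σ := by
  classical
  have hKa : ∀ k ∈ K, k • a = a := fun k hk => ((hK.mem_iff k).mp hk).1
  let act : MulDistribMulAction K (E G a) :=
    { smul := fun k z => ⟨k * z * (k : G)⁻¹, h.conj_mem_E' z.2 (hKa k k.2)⟩
      one_smul := fun z => Subtype.ext (by show ((1 : K) : G) * z * ((1 : K) : G)⁻¹ = z; simp)
      mul_smul := fun k l z => Subtype.ext (by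
        show ((k * l : K) : G) * z * ((k * l : K) : G)⁻¹ = k * (l * z * (l : G)⁻¹) * (k : G)⁻¹
        rw [Subgroup.coe_mul]; group)
      smul_one := fun k => Subtype.ext (by show (k : G) * ((1 : E G a) : G) * (k : G)⁻¹ = 1; simp)
      smul_mul := fun k x y => Subtype.ext (by
        show (k : G) * ((x * y : E G a) : G) * (k : G)⁻¹ =
          (k * x * (k : G)⁻¹) * (k * y * (k : G)⁻¹)
        rw [Subgroup.coe_mul]; group) }
  have hact : ∀ (k : K) (z : E G a), ((k • z : E G a) : G) = k * z * (k : G)⁻¹ := fun k z => rfl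
  obtain ⟨F, fF, ftF, cF, φ, actF, δ, hφ, hδ, hδ1⟩ :=
    SuzukiRankOne.SingerField.exists_singer (P := E G a) (K := K)
      (fun x y => Subtype.ext (hK.comm x x.2 y y.2))
      ⟨t, ht⟩ (fun h => ht1 (congrArg Subtype.val h)) (Subtype.ext (h.mem_E.mp ht).1)
      (fun x y _ => Subtype.ext (h.mul_comm_E x.2 y.2))
      (fun x hx _ => by
        obtain ⟨k, hk, hkx⟩ := hK.reg t ht ht1 x x.2 (fun h => hx (Subtype.ext h))
        exact ⟨⟨k, hk⟩, Subtype.ext hkx⟩)
      (fun k l hkl => by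
        have h1 : (k : G) * t * (k : G)⁻¹ = l * t * (l : G)⁻¹ := congrArg Subtype.val hkl
        have h2 : (l : G)⁻¹ * k * t = t * ((l : G)⁻¹ * k) := by
          calc (l : G)⁻¹ * k * t = (l : G)⁻¹ * ((k : G) * t * (k : G)⁻¹) * k := by group
            _ = t * ((l : G)⁻¹ * k) := by rw [h1]; group
        have h3 := hK.free _ (K.mul_mem (K.inv_mem l.2) k.2) t ht ht1 h2
        exact Subtype.ext (inv_mul_eq_one.mp h3).symm)
  have hδs : ∀ z : E G a, ∃ c, δ c = z := fun z =>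
    (hδ.inv z).mp (Subtype.ext (h.mem_E.mp z.2).1)
  have hmul : ∀ (c : Fˣ) (x : F), (δ ((c : F) * x) : G) = (φ c : G) * δ x * (φ c : G)⁻¹ := by
    intro c x
    rw [← hδ.smul, hφ, hact]
  have hδ0 : δ 0 = 1 := by
    have h := hδ.add 0 0
    rw [add_zero] at h
    exact (mul_eq_left.mp h.symm)
  have hinj : ∀ x y : F, (δ x : G) = δ y → x = y := fun x y h => hδ.inj (Subtype.ext h)
  have hex : ∀ (v : V) (x : F), ∃ y : F, (δ y : G) = v * δ x * (v : G)⁻¹ := by
    intro v x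
    obtain ⟨y, hy⟩ := hδs ⟨v * δ x * (v : G)⁻¹, h.conj_mem_E' (δ x).2 ((hV v).mp v.2).1⟩
    exact ⟨y, congrArg Subtype.val hy⟩
  choose σ hσ using hex
  have hadd : ∀ v x y, σ v (x + y) = σ v x + σ v y := by
    intro v x y
    apply hinj
    rw [hσ, hδ.add, hδ.add, Subgroup.coe_mul, Subgroup.coe_mul, hσ, hσ]
    group
  have hone : ∀ v, σ v 1 = 1 := by
    intro v
    apply hinj
    rw [hσ, hδ1]
    show (v : G) * t * (v : G)⁻¹ = t
    rw [((hV v).mp v.2).2.2, mul_inv_cancel_right]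
  have hzero : ∀ v, σ v 0 = 0 := by
    intro v
    apply hinj
    rw [hσ, hδ0]
    simp
  have hKn : ∀ (v : V) (k : K), (v : G) * k * (v : G)⁻¹ ∈ K := fun v k =>
    hK.normal v ((hV v).mp v.2).1 ((hV v).mp v.2).2.1 k k.2
  have hc : ∀ (v : V) (c : Fˣ) (x : F), σ v (c * x) =
      ((φ.symm ⟨v * φ c * (v : G)⁻¹, hKn v (φ c)⟩ : Fˣ) : F) * σ v x := by
    intro v c x
    apply hinj
    rw [hσ, hmul, hmul, MulEquiv.apply_symm_apply, hσ]
    group
  have hc1 : ∀ (v : V) (c : Fˣ), σ v c =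
      ((φ.symm ⟨v * φ c * (v : G)⁻¹, hKn v (φ c)⟩ : Fˣ) : F) := by
    intro v c
    have := hc v c 1
    rwa [mul_one, hone, mul_one] at this
  have hmulσ : ∀ v x y, σ v (x * y) = σ v x * σ v y := by
    intro v x y
    by_cases hx : x = 0
    · rw [hx, zero_mul, hzero, zero_mul]
    · have h1 := hc v (Units.mk0 x hx) y
      have h2 := hc1 v (Units.mk0 x hx)
      rw [Units.val_mk0] at h1 h2
      rw [h1, h2]
  have hσσ : ∀ (u v : V) (x : F), σ (u * v) x = σ u (σ v x) := by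
    intro u v x
    apply hinj
    rw [hσ, hσ, hσ, Subgroup.coe_mul]
    group
  have hσ1 : ∀ x : F, σ 1 x = x := by
    intro x
    apply hinj
    rw [hσ, Subgroup.coe_one]
    group
  let S : V → (F ≃+* F) := fun v =>
    { toFun := σ v
      invFun := σ v⁻¹
      left_inv := fun x => by rw [← hσσ, inv_mul_cancel, hσ1]
      right_inv := fun x => by rw [← hσσ, mul_inv_cancel, hσ1]
      map_mul' := hmulσ v
      map_add' := hadd v }
  let S' : V →* (F ≃+* F) :=
    { toFun := S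
      map_one' := RingEquiv.ext hσ1
      map_mul' := fun u v => RingEquiv.ext (hσσ u v) }
  refine ⟨F, fF, ftF, cF, fun c => (δ c : G), S', fun x y hxy => hinj x y hxy, ?_, hσ, ?_⟩
  · intro e
    constructor
    · intro he
      obtain ⟨c, hc⟩ := hδs ⟨e, he⟩
      exact ⟨c, congrArg Subtype.val hc⟩
    · rintro ⟨c, rfl⟩
      exact (δ c).2
  · rw [injective_iff_map_eq_one]
    intro v hv
    have h1 : ∀ x, σ v x = x := fun x => congrArg (fun f : F ≃+* F => f x) hv
    apply Subtype.ext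
    obtain ⟨hva, hvb, -⟩ := (hV v).mp v.2
    refine hY v hva hvb (fun e he => ?_)
    obtain ⟨c, hc⟩ := hδs ⟨e, he⟩
    have hc : (δ c : G) = e := congrArg Subtype.val hc
    have h2 := hσ v c
    rw [h1, hc] at h2
    exact (eq_mul_inv_iff_mul_eq.mp h2).symm

/-- The number of elements of `E a` centralised by an element `x` of `V`: `|C_E(x)|^|x| = |E|`. -/
theorem card_fix (h : Frame G Ω) {a b : Ω} {w : G} {K : Subgroup G}
    (hK : IsSinger a b w K)
    (hY : ∀ d : G, d • a = a → d • b = b → (∀ e ∈ E G a, d * e = e * d) → d = 1)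
    {t : G} (ht : t ∈ E G a) (ht1 : t ≠ 1) {x : G} (hxa : x • a = a) (hxb : x • b = b)
    (hxt : x * t = t * x) :
    (Nat.card ↥(E G a ⊓ Subgroup.centralizer ({x} : Set G))) ^ (orderOf x) = Nat.card (E G a) := by
  let V : Subgroup G :=
    stabilizer G a ⊓ stabilizer G b ⊓ Subgroup.centralizer ({t} : Set G)
  have hV : ∀ v, v ∈ V ↔ v • a = a ∧ v • b = b ∧ v * t = t * v := by
    intro v
    rw [Subgroup.mem_inf, Subgroup.mem_inf, mem_stabilizer_iff, mem_stabilizer_iff,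
      Subgroup.mem_centralizer_singleton_iff, and_assoc]
  obtain ⟨F, fF, ftF, cF, δ, σ, hinj, hmem, hσ, hσi⟩ := exists_galois h hK hY ht ht1 hV
  have hxV : x ∈ V := (hV x).mpr ⟨hxa, hxb, hxt⟩
  have h1 : Nat.card F = Nat.card (E G a) := by
    refine Nat.card_congr (Equiv.ofBijective (fun c => (⟨δ c, (hmem _).mpr ⟨c, rfl⟩⟩ : E G a))
      ⟨fun c d hcd => hinj (congrArg Subtype.val hcd), fun e => ?_⟩)
    obtain ⟨c, hc⟩ := (hmem e).mp e.2
    exact ⟨c, Subtype.ext hc⟩
  have h2 : orderOf (σ ⟨x, hxV⟩) = orderOf x := by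
    rw [orderOf_injective σ hσi, ← Subgroup.orderOf_coe]
  have h3 : ∀ c : F, σ ⟨x, hxV⟩ c = c ↔ x * δ c = δ c * x := by
    intro c
    have h4 := hσ ⟨x, hxV⟩ c
    constructor
    · intro h5
      rw [h5] at h4
      exact (eq_mul_inv_iff_mul_eq.mp h4).symm
    · intro h5
      apply hinj
      rw [h4]
      exact mul_inv_eq_iff_eq_mul.mpr h5
  have h4 : Nat.card {c : F // σ ⟨x, hxV⟩ c = c} =
      Nat.card ↥(E G a ⊓ Subgroup.centralizer ({x} : Set G)) := by
    refine Nat.card_congr (Equiv.ofBijective (fun c => (⟨δ c.1, (hmem _).mpr ⟨c.1, rfl⟩, ?_⟩ :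
      ↥(E G a ⊓ Subgroup.centralizer ({x} : Set G))))
      ⟨fun c d hcd => Subtype.ext (hinj (congrArg Subtype.val hcd)), fun e => ?_⟩)
    · exact Subgroup.mem_centralizer_singleton_iff.mpr ((h3 c.1).mp c.2).symm
    · obtain ⟨c, hc⟩ := (hmem e).mp e.2.1
      refine ⟨⟨c, (h3 c).mpr ?_⟩, Subtype.ext hc⟩
      rw [hc]
      exact (Subgroup.mem_centralizer_singleton_iff.mp e.2.2).symm
  rw [← h4, ← h2, card_fixed_pow, h1]

/-- The centralizer `V` in `D` of an involution of `E a` is cyclic, of order dividing `e`,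
`|E| = 2^e`. -/
theorem isCyclic_and_card_dvd (h : Frame G Ω) {a b : Ω} {w : G} {K : Subgroup G}
    (hK : IsSinger a b w K)
    (hY : ∀ d : G, d • a = a → d • b = b → (∀ e ∈ E G a, d * e = e * d) → d = 1)
    {t : G} (ht : t ∈ E G a) (ht1 : t ≠ 1) {V : Subgroup G}
    (hV : ∀ v, v ∈ V ↔ v • a = a ∧ v • b = b ∧ v * t = t * v) {e : ℕ}
    (he : Nat.card (E G a) = 2 ^ e) : IsCyclic V ∧ Nat.card V ∣ e := by
  obtain ⟨F, fF, ftF, cF, δ, σ, hinj, hmem, hσ, hσi⟩ := exists_galois h hK hY ht ht1 hV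
  have h1 : Nat.card F = Nat.card (E G a) := by
    refine Nat.card_congr (Equiv.ofBijective (fun c => (⟨δ c, (hmem _).mpr ⟨c, rfl⟩⟩ : E G a))
      ⟨fun c d hcd => hinj (congrArg Subtype.val hcd), fun e => ?_⟩)
    obtain ⟨c, hc⟩ := (hmem e).mp e.2
    exact ⟨c, Subtype.ext hc⟩
  have hcy := isCyclic_ringEquiv F
  refine ⟨isCyclic_of_injective σ hσi, ?_⟩
  rw [← card_ringEquiv F (h1.trans he)]
  exact Subgroup.card_dvd_of_injective σ hσi

omit [Finite G] in
/-- `D = K V`. -/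
theorem exists_mul_eq (h : Frame G Ω) {a b : Ω} {w : G} {K : Subgroup G}
    (hK : IsSinger a b w K) {t : G} (ht : t ∈ E G a) (ht1 : t ≠ 1) {d : G} (hda : d • a = a)
    (hdb : d • b = b) : ∃ k ∈ K, ∃ v : G, v • a = a ∧ v • b = b ∧ v * t = t * v ∧ d = k * v := by
  have h1 : d * t * d⁻¹ ≠ 1 := by
    intro e
    apply ht1
    calc t = d⁻¹ * (d * t * d⁻¹) * d := by group
      _ = 1 := by rw [e]; group
  obtain ⟨k, hk, hkt⟩ := hK.reg t ht ht1 _ (h.conj_mem_E' ht hda) h1
  obtain ⟨hka, hkb, -⟩ := (hK.mem_iff k).mp hk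
  refine ⟨k, hk, k⁻¹ * d, ?_, ?_, ?_, by group⟩
  · rw [mul_smul, hda, inv_smul_eq_iff, hka]
  · rw [mul_smul, hdb, inv_smul_eq_iff, hkb]
  · calc k⁻¹ * d * t = k⁻¹ * (d * t * d⁻¹) * d := by group
      _ = t * (k⁻¹ * d) := by rw [← hkt]; group

/-- **The remaining situation**: if some `x ∈ D` of prime order `p` centralises exactly one
involution of `E a`, then `|E a| = 2^p` and the centralizer `V` of `t` in `D` has order `p`. -/
theorem card_of_unique (h : Frame G Ω) {a b : Ω} {w : G} {K : Subgroup G}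
    (hK : IsSinger a b w K)
    (hY : ∀ d : G, d • a = a → d • b = b → (∀ e ∈ E G a, d * e = e * d) → d = 1)
    {t : G} (ht : t ∈ E G a) (ht1 : t ≠ 1) {x : G} (hxa : x • a = a) (hxb : x • b = b)
    (hxt : x * t = t * x) (hun : ∀ e ∈ E G a, x * e = e * x → e = 1 ∨ e = t) {p : ℕ}
    (hp : p.Prime) (hx : orderOf x = p) :
    Nat.card (E G a) = 2 ^ p ∧ ∀ V : Subgroup G,
      (∀ v, v ∈ V ↔ v • a = a ∧ v • b = b ∧ v * t = t * v) → Nat.card V = p ∧
        V = Subgroup.zpowers x := by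
  have h1 := card_fix h hK hY ht ht1 hxa hxb hxt
  have h2 : Nat.card ↥(E G a ⊓ Subgroup.centralizer ({x} : Set G)) = 2 := by
    have h3 : E G a ⊓ Subgroup.centralizer ({x} : Set G) = Subgroup.zpowers t := by
      apply le_antisymm
      · rintro e ⟨he, hxe⟩
        rcases hun e he (Subgroup.mem_centralizer_singleton_iff.mp hxe).symm with h4 | h4
        · rw [h4]; exact Subgroup.one_mem _
        · rw [h4]; exact Subgroup.mem_zpowers t
      · rw [Subgroup.zpowers_le]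
        exact ⟨ht, Subgroup.mem_centralizer_singleton_iff.mpr hxt.symm⟩
    rw [h3, Nat.card_zpowers]
    exact orderOf_eq_two_of_mul_self (h.mem_E.mp ht).1 ht1
  rw [h2, hx] at h1
  refine ⟨h1.symm, fun V hV => ?_⟩
  obtain ⟨-, h4⟩ := isCyclic_and_card_dvd h hK hY ht ht1 hV h1.symm
  have hxV : x ∈ V := (hV x).mpr ⟨hxa, hxb, hxt⟩
  have h5 : Nat.card V ≠ 1 := by
    intro h6
    have h7 : V = ⊥ := Subgroup.card_eq_one.mp h6
    rw [h7, Subgroup.mem_bot] at hxV
    rw [hxV, orderOf_one] at hx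
    exact hp.one_lt.ne hx
  have h6 : Nat.card V = p := ((Nat.dvd_prime hp).mp h4).resolve_left h5
  refine ⟨h6, ?_⟩
  symm
  refine Subgroup.eq_of_le_of_card_ge ?_ ?_
  · rw [Subgroup.zpowers_le]; exact hxV
  · rw [Nat.card_zpowers, hx, h6]

end

end Cfsg.Agent.BenderW3.Singer
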