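import Cfsg.Agent.BenderW3.Setup
import Cfsg.Agent.S1161
import Cfsg.Agent.Lib.Cores

/-!
# The two-point stabilizer as a transitive linear group of odd order

`D`, a subgroup of odd order of a frame fixing `a` and `b`, normalised by an involution `w`, acting
faithfully on `E a` and transitively on the involutions of `E a`: its Fitting subgroup is a cyclic
subgroup `F` containing all elements of `D` inverted by `w` (S1161).
-/

set_option autoImplicit false

namespace Cfsg.Agent.BenderW3.SingerA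

open MulAction Cfsg.Agent.StrongEmb.Basic Cfsg.Agent.TwoFusion.StronglyEmbeddedBasic
open Cfsg.Agent.BenderW3.Setup

/-- Two elements normalising a cyclic group commute modulo its centralizer. -/
theorem conj_conj_comm {G : Type*} [Group G] {F : Subgroup G} (hF : IsCyclic F) {m w : G}
    (hm : ∀ x ∈ F, m * x * m⁻¹ ∈ F) (hw : ∀ x ∈ F, w * x * w⁻¹ ∈ F) (x : G) (hx : x ∈ F) :
    m * (w * x * w⁻¹) * m⁻¹ = w * (m * x * m⁻¹) * w⁻¹ := by
  obtain ⟨⟨g, hg⟩, hgen⟩ := hF.exists_generator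
  have hex : ∀ y ∈ F, ∃ i : ℤ, g ^ i = y := by
    intro y hy
    obtain ⟨i, hi⟩ := Subgroup.mem_zpowers_iff.mp (hgen ⟨y, hy⟩)
    exact ⟨i, congrArg Subtype.val hi⟩
  obtain ⟨i, hi⟩ := hex _ (hm g hg)
  obtain ⟨j, hj⟩ := hex _ (hw g hg)
  obtain ⟨k, rfl⟩ := hex x hx
  have hconj : ∀ (u : G) (n : ℤ) (y : G), u * y ^ n * u⁻¹ = (u * y * u⁻¹) ^ n := by
    intro u n y
    exact conj_zpow.symm
  rw [hconj w k g, hconj m k g, ← hi, ← hj, hconj m k, hconj w k, hconj m j, hconj w i, ← hi,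
    ← hj]
  simp only [← zpow_mul]
  congr 1
  ring

/-- The Fitting subgroup contains its centralizer if the commutator subgroup is inside it. -/
theorem centralizer_le_fitting {D : Type*} [Group D] [Finite D]
    (hc : commutator D ≤ Cfsg.fittingSubgroup D) :
    Subgroup.centralizer (Cfsg.fittingSubgroup D : Set D) ≤ Cfsg.fittingSubgroup D := by
  have hn : (Cfsg.fittingSubgroup D).Normal := Cfsg.Agent.Lib.Cores.fittingSubgroup_normal
  refine Cfsg.Agent.Lib.Cores.le_fittingSubgroup inferInstance ?_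
  refine Subgroup.isNilpotent_of_ker_le_center
    (Abelianization.of (G := Subgroup.centralizer (Cfsg.fittingSubgroup D : Set D))) ?_
  rw [Abelianization.ker_of, _root_.commutator_def, Subgroup.commutator_le]
  rintro x - y -
  rw [Subgroup.mem_center_iff]
  intro g
  apply Subtype.ext
  have h1 : (x : D) * y * (x : D)⁻¹ * (y : D)⁻¹ ∈ Cfsg.fittingSubgroup D :=
    hc (Subgroup.commutator_mem_commutator (Subgroup.mem_top _) (Subgroup.mem_top _))
  exact (Subgroup.mem_centralizer_iff.mp g.2 _ h1).symm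

section

variable {G Ω : Type*} [Group G] [MulAction G Ω]

/-- `D` acts transitively on the involutions of `E a`. -/
theorem exists_conj [Finite G] (h : Frame G Ω) {a b : Ω} (hab : a ≠ b) {w : G}
    (hwa : w • a = b) {s t : G} (hs : orderOf s = 2) (hsa : s • a = a)
    (ht : orderOf t = 2) (hta : t • a = a) :
    ∃ d : G, d • a = a ∧ d • b = b ∧ d * s * d⁻¹ = t := by
  have hu : orderOf (w * s * w⁻¹) = 2 := by rw [orderOf_conj, hs]
  have hub : (w * s * w⁻¹) • b = b := by
    rw [← hwa, mul_smul, mul_smul, inv_smul_smul, hsa]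
  obtain ⟨j, -, -, hj1, -, hj3, hj4⟩ := h.uniq.exists_swap hs hu hab hsa hub
  obtain ⟨k, -, -, hk1, -, hk3, hk4⟩ := h.uniq.exists_swap ht hu hab hta hub
  refine ⟨k⁻¹ * j, ?_, ?_, ?_⟩
  · rw [mul_smul, hj3, inv_smul_eq_iff, hk3]
  · rw [mul_smul, hj4, inv_smul_eq_iff, hk4]
  · rw [← hk1] at hj1
    calc k⁻¹ * j * s * (k⁻¹ * j)⁻¹ = k⁻¹ * (j * s * j⁻¹) * k := by group
      _ = t := by rw [hj1]; group

/-- The elements inverted by `w` act transitively on the involutions of `E a`. -/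
theorem exists_conj_inverted [Finite G] (h : Frame G Ω) {a b : Ω} (hab : a ≠ b) {w : G}
    (hw : orderOf w = 2) (hwa : w • a = b) {s t : G} (hs : orderOf s = 2) (hsa : s • a = a)
    (ht : orderOf t = 2) (hta : t • a = a) :
    ∃ d : G, d • a = a ∧ d • b = b ∧ w * d * w⁻¹ = d⁻¹ ∧ d * s * d⁻¹ = t := by
  have hwb : w • b = a := smul_of_involution hw hwa
  have hwi := inv_eq_self_of_orderOf hw
  have hww := mul_self_of_orderOf hw
  have hu : orderOf (w * t * w⁻¹) = 2 := by rw [orderOf_conj, ht]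
  have hub : (w * t * w⁻¹) • b = b := by
    rw [← hwa, mul_smul, mul_smul, inv_smul_smul, hta]
  obtain ⟨j, -, hj2, hj1, -, hj3, hj4⟩ := h.uniq.exists_swap hs hu hab hsa hub
  have hji := inv_eq_self_of_orderOf hj2
  refine ⟨w * j, ?_, ?_, ?_, ?_⟩
  · rw [mul_smul, hj3, hwb]
  · rw [mul_smul, hj4, hwa]
  · calc w * (w * j) * w⁻¹ = (w * w) * j * w⁻¹ := by group
      _ = (w * j)⁻¹ := by rw [hww, one_mul, mul_inv_rev, hji]
  · calc w * j * s * (w * j)⁻¹ = w * (j * s * j⁻¹) * w⁻¹ := by group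
      _ = (w * w) * t * (w * w)⁻¹ := by rw [hj1]; group
      _ = t := by rw [hww]; group

/-- **The Fitting subgroup of the two-point stabilizer** as a subgroup of `G`. -/
theorem exists_F [Finite G] (h : Frame G Ω) {a b : Ω} (hab : a ≠ b) {w : G}
    (hw : orderOf w = 2) (hwa : w • a = b) {s : G} (hs : orderOf s = 2) (hsa : s • a = a)
    (hY : ∀ d : G, d • a = a → d • b = b → (∀ e ∈ E G a, d * e = e * d) → d = 1) :
    ∃ F : Subgroup G, (∀ x ∈ F, x • a = a ∧ x • b = b) ∧ IsCyclic F ∧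
      (∀ d : G, d • a = a → d • b = b → ∀ x ∈ F, d * x * d⁻¹ ∈ F) ∧
      (∀ x ∈ F, w * x * w⁻¹ ∈ F) ∧
      (∀ x ∈ F, ∀ e ∈ E G a, e ≠ 1 → x * e = e * x → x = 1) ∧
      (∀ d : G, d • a = a → d • b = b → (∀ x ∈ F, d * x = x * d) → d ∈ F) ∧
      (∀ c d : G, c • a = a → c • b = b → d • a = a → d • b = b → c * d * c⁻¹ * d⁻¹ ∈ F) := by
  classical
  set D : Subgroup G := stabilizer G a ⊓ stabilizer G b with hDdef
  have hD : ∀ {d : G}, d ∈ D ↔ d • a = a ∧ d • b = b := by
    intro d; rw [hDdef, Subgroup.mem_inf, mem_stabilizer_iff, mem_stabilizer_iff]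
  have hDodd : Odd (Nat.card D) :=
    h.uniq.odd_of_fixes_two hab D (fun d hd => (hD.mp hd).1) (fun d hd => (hD.mp hd).2)
  let cg : CommGroup (E G a) :=
    { (inferInstance : Group (E G a)) with
      mul_comm := fun x y => Subtype.ext (h.mul_comm_E x.2 y.2) }
  let A := Additive (E G a)
  let acg : AddCommGroup A := @Additive.addCommGroup _ cg
  let val : A → G := fun x => Subtype.val (p := fun w => w ∈ E G a) (Additive.toMul x)
  have hvalc : ∀ x : A, val x ∈ E G a := fun x =>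
    Subtype.property (p := fun w => w ∈ E G a) (Additive.toMul x)
  have hval : ∀ x y : A, val x = val y → x = y := by
    intro x y hxy
    apply Additive.toMul.injective
    exact Subtype.ext hxy
  let actA : DistribMulAction D A :=
    { smul := fun k x => Additive.ofMul ⟨(k : G) * (val x) * (k : G)⁻¹,
        h.conj_mem_E' (hvalc x) (hD.mp k.2).1⟩
      one_smul := fun x => by
        apply hval
        change ((1 : D) : G) * (val x) * ((1 : D) : G)⁻¹ = val x
        simp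
      mul_smul := fun k l x => by
        apply hval
        change ((k * l : D) : G) * (val x) * ((k * l : D) : G)⁻¹ =
          (k : G) * ((l : G) * (val x) * (l : G)⁻¹) * (k : G)⁻¹
        rw [Subgroup.coe_mul]
        group
      smul_zero := fun k => by
        apply hval
        change (k : G) * (1 : G) * (k : G)⁻¹ = 1
        group
      smul_add := fun k x y => by
        apply hval
        change (k : G) * (val x * val y) * (k : G)⁻¹ =
          (k * val x * (k : G)⁻¹) * (k * val y * (k : G)⁻¹)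
        group }
  have hact : ∀ (k : D) (x : A), val (k • x) = (k : G) * val x * (k : G)⁻¹ := fun k x => rfl
  have hfinA : Finite A := inferInstanceAs (Finite (E G a))
  have hs1 : s ≠ 1 := fun e => by rw [e, orderOf_one] at hs; exact absurd hs (by norm_num)
  have hnt : Nontrivial A := by
    refine ⟨⟨Additive.ofMul ⟨s, h.mem_E_of_orderOf hs hsa⟩, 0, fun e => hs1 ?_⟩⟩
    exact congrArg val e
  have hfaith : FaithfulSMul D A := by
    refine ⟨fun {x y} hxy => ?_⟩
    have h1 : ((y⁻¹ * x : D) : G) = 1 := by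
      refine hY _ (hD.mp (y⁻¹ * x : D).2).1 (hD.mp (y⁻¹ * x : D).2).2 (fun e he => ?_)
      have h2 := hxy (Additive.ofMul ⟨e, he⟩)
      have h3 : (x : G) * e * (x : G)⁻¹ = (y : G) * e * (y : G)⁻¹ := congrArg val h2
      have h4 : (x : G) * e = (y : G) * e * (y : G)⁻¹ * x := by rw [← h3]; group
      calc ((y⁻¹ * x : D) : G) * e = (y : G)⁻¹ * ((x : G) * e) := by push_cast; group
        _ = e * ((y⁻¹ * x : D) : G) := by rw [h4]; push_cast; group
    have h2 : y⁻¹ * x = 1 := Subtype.ext h1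
    exact (inv_mul_eq_one.mp h2).symm
  have hE2 : ∀ e : A, 2 • e = 0 := by
    intro e
    apply hval
    rw [two_nsmul]
    exact (h.mem_E.mp (hvalc e)).1
  have hord : ∀ x : A, x ≠ 0 → orderOf (val x) = 2 := fun x hx =>
    orderOf_eq_two_of_mul_self (h.mem_E.mp (hvalc x)).1 (fun e => hx (hval x 0 e))
  have htrans : ∀ x y : A, x ≠ 0 → y ≠ 0 → ∃ d : D, d • x = y := by
    intro x y hx hy
    obtain ⟨d, hda, hdb, hd⟩ := exists_conj h hab hwa (hord x hx) (h.mem_E.mp (hvalc x)).2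
      (hord y hy) (h.mem_E.mp (hvalc y)).2
    exact ⟨⟨d, hD.mpr ⟨hda, hdb⟩⟩, hval _ _ hd⟩
  obtain ⟨hcyc, hfpf, hcomm⟩ := Cfsg.Agent.S1161.result hDodd Nat.prime_two hE2 htrans
  have hn : (Cfsg.fittingSubgroup D).Normal := Cfsg.Agent.Lib.Cores.fittingSubgroup_normal
  have hchar : (Cfsg.fittingSubgroup D).Characteristic :=
    Cfsg.Agent.Lib.Cores.fittingSubgroup_characteristic
  have hcent := centralizer_le_fitting hcomm
  have hwb : w • b = a := smul_of_involution hw hwa
  have hwD : ∀ d ∈ D, w * d * w⁻¹ ∈ D := by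
    intro d hd
    obtain ⟨h1, h2⟩ := hD.mp hd
    have hwi := inv_eq_self_of_orderOf hw
    refine hD.mpr ⟨?_, ?_⟩
    · rw [hwi, mul_smul, mul_smul, hwa, h2, hwb]
    · rw [hwi, mul_smul, mul_smul, hwb, h1, hwa]
  let τ : D ≃* D := MulEquiv.mk' (Equiv.mk (fun d => ⟨w * d * w⁻¹, hwD d d.2⟩)
    (fun d => ⟨w * d * w⁻¹, hwD d d.2⟩)
    (fun d => by
      apply Subtype.ext
      change w * (w * d * w⁻¹) * w⁻¹ = d
      calc w * (w * d * w⁻¹) * w⁻¹ = (w * w) * d * (w * w)⁻¹ := by group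
        _ = d := by rw [mul_self_of_orderOf hw]; group)
    (fun d => by
      apply Subtype.ext
      change w * (w * d * w⁻¹) * w⁻¹ = d
      calc w * (w * d * w⁻¹) * w⁻¹ = (w * w) * d * (w * w)⁻¹ := by group
        _ = d := by rw [mul_self_of_orderOf hw]; group))
    (fun x y => by
      apply Subtype.ext
      change w * (x * y) * w⁻¹ = (w * x * w⁻¹) * (w * y * w⁻¹)
      group)
  have hτ : ∀ d : D, ((τ d : D) : G) = w * d * w⁻¹ := fun d => rfl
  have hτF : ∀ d ∈ Cfsg.fittingSubgroup D, τ d ∈ Cfsg.fittingSubgroup D := by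
    intro d hd
    have h1 := Subgroup.characteristic_iff_map_le.mp hchar τ
    exact h1 (Subgroup.mem_map_of_mem _ hd)
  refine ⟨(Cfsg.fittingSubgroup D).map D.subtype, ?_, ?_, ?_, ?_, ?_, ?_, ?_⟩
  · rintro x ⟨y, -, rfl⟩
    exact hD.mp y.2
  · exact isCyclic_of_surjective
      ((Cfsg.fittingSubgroup D).equivMapOfInjective D.subtype D.subtype_injective)
      (MulEquiv.surjective _)
  · rintro d hda hdb x ⟨y, hy, rfl⟩
    exact ⟨⟨d, hD.mpr ⟨hda, hdb⟩⟩ * y * ⟨d, hD.mpr ⟨hda, hdb⟩⟩⁻¹, hn.conj_mem y hy _, rfl⟩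
  · rintro x ⟨y, hy, rfl⟩
    exact ⟨τ y, hτF y hy, rfl⟩
  · rintro x ⟨y, hy, rfl⟩ e he he1 hxe
    by_contra hne
    have hy1 : y ≠ 1 := fun e1 => hne (by rw [e1]; rfl)
    refine he1 ?_
    have h1 := hfpf y hy hy1 (Additive.ofMul ⟨e, he⟩) ?_
    · exact congrArg val h1
    · apply hval
      change (y : G) * e * (y : G)⁻¹ = e
      rw [show (y : G) * e = e * y from hxe]
      group
  · intro d hda hdb hd
    refine ⟨⟨d, hD.mpr ⟨hda, hdb⟩⟩, hcent ?_, rfl⟩
    rw [Subgroup.mem_centralizer_iff]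
    intro x hx
    apply Subtype.ext
    exact (hd x ⟨x, hx, rfl⟩).symm
  · intro c d hca hcb hda hdb
    refine ⟨⟨c, hD.mpr ⟨hca, hcb⟩⟩ * ⟨d, hD.mpr ⟨hda, hdb⟩⟩ * ⟨c, hD.mpr ⟨hca, hcb⟩⟩⁻¹ *
      ⟨d, hD.mpr ⟨hda, hdb⟩⟩⁻¹, hcomm ?_, rfl⟩
    exact Subgroup.commutator_mem_commutator (Subgroup.mem_top _) (Subgroup.mem_top _)

end

end Cfsg.Agent.BenderW3.SingerA
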