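import Mathlib
import Cfsg.Prelude.Def_Characters
import Cfsg.Agent.Blocks.SemiregularGram
import Cfsg.Agent.S0848

/-!
# Characters and a self-centralizing TI subgroup

`K` is an abelian subgroup of the finite group `G` with `C_G(k) = K` for every `1 ≠ k ∈ K`.  The
integers `cf K χ l = ⟨χ|K, 1 - l⟩` satisfy Gram relations.
-/

set_option autoImplicit false

open scoped ComplexConjugate
open Cfsg Cfsg.Agent.Characters.Core Cfsg.Agent.Blocks.SemiregularGram

namespace Cfsg.Agent.BenderW3.TIGram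

universe u

variable {G : Type u} [Group G]

/-- The automorphisms of `K` induced by its normalizer. -/
def autz (K : Subgroup G) : Subgroup (MulAut K) := (Subgroup.normalizerMonoidHom K).range

theorem mem_autz (K : Subgroup G) (s : MulAut K) :
    s ∈ autz K ↔ ∃ g ∈ Subgroup.normalizer (K : Set G), ∀ k : K, ((s k : K) : G) = g * k * g⁻¹ := by
  constructor
  · rintro ⟨g, rfl⟩
    exact ⟨g, g.2, fun k => rfl⟩
  · rintro ⟨g, hg, h⟩
    refine ⟨⟨g, hg⟩, ?_⟩
    ext k
    exact (h k).symm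

variable {K : Subgroup G}

theorem comm_of (hC : ∀ k ∈ K, k ≠ 1 → Subgroup.centralizer {k} = K) :
    ∀ x y : K, x * y = y * x := by
  intro x y
  by_cases hx : (x : G) = 1
  · have : x = 1 := Subtype.ext hx
    rw [this, one_mul, mul_one]
  · have h := hC x x.2 hx
    have h2 : (y : G) ∈ Subgroup.centralizer {(x : G)} := by rw [h]; exact y.2
    rw [Subgroup.mem_centralizer_singleton_iff] at h2
    exact Subtype.ext h2.symm

theorem fus_of (hC : ∀ k ∈ K, k ≠ 1 → Subgroup.centralizer {k} = K) (u v : K) :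
    IsConj (u : G) (v : G) ↔ ∃ s ∈ autz K, s u = v := by
  constructor
  · intro h
    obtain ⟨g, hg⟩ := isConj_iff.mp h
    by_cases hu : (u : G) = 1
    · refine ⟨1, one_mem _, ?_⟩
      have hv : (v : G) = 1 := by rw [← hg, hu]; group
      have h1 : u = 1 := Subtype.ext hu
      have h2 : v = 1 := Subtype.ext hv
      rw [h1, h2]; rfl
    · have hv : (v : G) ≠ 1 := by
        intro h1
        apply hu
        rw [h1] at hg
        have : (u : G) = g⁻¹ * 1 * g := by rw [← hg]; group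
        rw [this]; group
      have hcu := hC u u.2 hu
      have hcv := hC v v.2 hv
      have hmem : ∀ x, x ∈ K ↔ g * x * g⁻¹ ∈ K := by
        intro x
        conv_lhs => rw [← hcu]
        conv_rhs => rw [← hcv]
        rw [Subgroup.mem_centralizer_singleton_iff, Subgroup.mem_centralizer_singleton_iff, ← hg]
        constructor
        · intro h3
          calc g * x * g⁻¹ * (g * u * g⁻¹) = g * (x * u) * g⁻¹ := by group
            _ = g * (u * x) * g⁻¹ := by rw [h3]
            _ = _ := by group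
        · intro h3
          calc x * u = g⁻¹ * (g * x * g⁻¹ * (g * u * g⁻¹)) * g := by group
            _ = g⁻¹ * (g * u * g⁻¹ * (g * x * g⁻¹)) * g := by rw [h3]
            _ = _ := by group
      have hgN : g ∈ Subgroup.normalizer (K : Set G) := by
        rw [Subgroup.mem_normalizer_iff]
        intro x
        exact hmem x
      refine ⟨K.normalizerMonoidHom ⟨g, hgN⟩, ⟨_, rfl⟩, ?_⟩
      apply Subtype.ext
      exact hg
  · rintro ⟨s, hs, rfl⟩
    obtain ⟨g, _, h⟩ := (mem_autz K s).mp hs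
    rw [isConj_iff]
    exact ⟨g, (h u).symm⟩

theorem semireg_of (hC : ∀ k ∈ K, k ≠ 1 → Subgroup.centralizer {k} = K) :
    ∀ s ∈ autz K, ∀ u : K, u ≠ 1 → s u = u → s = 1 := by
  intro s hs u hu hsu
  obtain ⟨g, _, h⟩ := (mem_autz K s).mp hs
  have hu' : (u : G) ≠ 1 := fun h1 => hu (Subtype.ext h1)
  have h1 : g * u * g⁻¹ = u := by rw [← h u, hsu]
  have h2 : g ∈ K := by
    rw [← hC u u.2 hu', Subgroup.mem_centralizer_singleton_iff]
    calc g * u = g * u * g⁻¹ * g := by group
      _ = u * g := by rw [h1]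
  ext k
  rw [h k]
  have h3 := congrArg Subtype.val (comm_of hC ⟨g, h2⟩ k)
  have h4 : g * (k : G) = k * g := h3
  show g * (k : G) * g⁻¹ = ((1 : MulAut K) k : K)
  rw [h4, mul_inv_cancel_right]
  rfl

open scoped Classical in
theorem column_of [Finite G] [Fintype (IrrCharacter G)]
    (hC : ∀ k ∈ K, k ≠ 1 → Subgroup.centralizer {k} = K) (u v : K) (hu : u ≠ 1) :
    ∑ χ : IrrCharacter G, (χ : G → ℂ) u * conj ((χ : G → ℂ) v) =
      if IsConj (u : G) (v : G) then (Nat.card K : ℂ) else 0 := by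
  rw [← S0848.column_orth]
  have hu' : (u : G) ≠ 1 := fun h1 => hu (Subtype.ext h1)
  split_ifs with h
  · obtain ⟨g, hg⟩ := isConj_iff.mp h
    norm_cast
    refine Nat.card_congr ⟨fun a => ⟨g⁻¹ * a.1, ?_⟩, fun k => ⟨g * k, ?_⟩, ?_, ?_⟩
    · have ha := a.2
      have h1 : a.1 * u * a.1⁻¹ = g * u * g⁻¹ := by rw [ha, hg]
      have h2 : g⁻¹ * a.1 ∈ Subgroup.centralizer {(u : G)} := by
        rw [Subgroup.mem_centralizer_singleton_iff]
        calc g⁻¹ * a.1 * u = g⁻¹ * (a.1 * u * a.1⁻¹) * a.1 := by group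
          _ = g⁻¹ * (g * u * g⁻¹) * a.1 := by rw [h1]
          _ = _ := by group
      rwa [hC u u.2 hu'] at h2
    · have hk : (k : G) * u = u * k := by
        have h2 : (k : G) ∈ Subgroup.centralizer {(u : G)} := by rw [hC u u.2 hu']; exact k.2
        exact Subgroup.mem_centralizer_singleton_iff.mp h2
      calc g * (k : G) * u * (g * k)⁻¹ = g * (k * u) * (k : G)⁻¹ * g⁻¹ := by
            rw [mul_inv_rev]; simp only [mul_assoc]
        _ = g * (u * k) * (k : G)⁻¹ * g⁻¹ := by rw [hk]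
        _ = g * u * g⁻¹ := by rw [← mul_assoc, mul_inv_cancel_right]
        _ = v := hg
    · intro a
      apply Subtype.ext
      show g * (g⁻¹ * a.1) = a.1
      group
    · intro k
      apply Subtype.ext
      show g⁻¹ * (g * k.1) = k.1
      group
  · have : IsEmpty {a : G // a * (u : G) * a⁻¹ = v} := ⟨fun a => h (isConj_iff.mpr ⟨a.1, a.2⟩)⟩
    rw [Nat.card_of_isEmpty, Nat.cast_zero]

variable [Finite G]

/-- the integer `⟨χ|K, 1 - l⟩`. -/
noncomputable def cf (K : Subgroup G) (χ : IrrCharacter G) (l : K →* ℂˣ) : ℤ :=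
  (@coef_int G _ K (Fintype.ofFinite K) (χ : G → ℂ) (isIrr_isCharacter χ.2) l).choose

theorem coef_eq_cf [Fintype K] (χ : IrrCharacter G) (l : K →* ℂˣ) :
    coef K (χ : G → ℂ) l = (cf K χ l : ℂ) := by
  have h := (@coef_int G _ K (Fintype.ofFinite K) (χ : G → ℂ) (isIrr_isCharacter χ.2) l).choose_spec
  rw [cf, ← h]
  congr 1
  exact Subsingleton.elim _ _

theorem conj_cf (χ : IrrCharacter G) (l : K →* ℂˣ) : conj (cf K χ l : ℂ) = cf K χ l :=
  map_intCast _ _

/-- two linear characters of `K` in the same orbit of the normalizer. -/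
def rel (K : Subgroup G) (l m : K →* ℂˣ) : Prop := ∃ s ∈ autz K, m.comp s.toMonoidHom = l

open scoped Classical in
theorem gram_int [Fintype (IrrCharacter G)]
    (hC : ∀ k ∈ K, k ≠ 1 → Subgroup.centralizer {k} = K) (l m : K →* ℂˣ) (hl : l ≠ 1)
    (hm : m ≠ 1) :
    ∑ χ : IrrCharacter G, cf K χ l * cf K χ m =
      (Nat.card (autz K) : ℤ) + if rel K l m then 1 else 0 := by
  have : Fintype K := Fintype.ofFinite K
  have : Finite (MulAut K) := inferInstance
  have : Fintype (autz K) := Fintype.ofFinite _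
  have h := gram K (comm_of hC) (autz K) (fus_of hC) (semireg_of hC)
    (Finset.univ : Finset (IrrCharacter G)) (fun u v hu => column_of hC u v hu) l m hl hm
  simp only [coef_eq_cf, conj_cf] at h
  unfold rel
  exact_mod_cast h

omit [Finite G] in
theorem rel_refl (l : K →* ℂˣ) : rel K l l := ⟨1, one_mem _, by ext; rfl⟩

omit [Finite G] in
theorem rel_symm {l m : K →* ℂˣ} (h : rel K l m) : rel K m l := by
  obtain ⟨s, hs, rfl⟩ := h
  refine ⟨s⁻¹, inv_mem hs, ?_⟩
  ext k
  simp [MonoidHom.comp_apply]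

theorem sum_sq [Fintype (IrrCharacter G)]
    (hC : ∀ k ∈ K, k ≠ 1 → Subgroup.centralizer {k} = K) (l : K →* ℂˣ) (hl : l ≠ 1) :
    ∑ χ : IrrCharacter G, cf K χ l ^ 2 = (Nat.card (autz K) : ℤ) + 1 := by
  classical
  have h := gram_int hC l l hl hl
  rw [if_pos (rel_refl l)] at h
  rw [← h]
  exact Finset.sum_congr rfl fun χ _ => sq _

theorem sum_sub_sq [Fintype (IrrCharacter G)]
    (hC : ∀ k ∈ K, k ≠ 1 → Subgroup.centralizer {k} = K) (l m : K →* ℂˣ) (hl : l ≠ 1)
    (hm : m ≠ 1) (h : ¬ rel K l m) :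
    ∑ χ : IrrCharacter G, (cf K χ l - cf K χ m) ^ 2 = 2 := by
  classical
  have h1 := sum_sq hC l hl
  have h2 := sum_sq hC m hm
  have h3 := gram_int hC l m hl hm
  rw [if_neg h] at h3
  have h4 : ∑ χ : IrrCharacter G, (cf K χ l - cf K χ m) ^ 2 =
      ∑ χ : IrrCharacter G, cf K χ l ^ 2 + ∑ χ : IrrCharacter G, cf K χ m ^ 2 -
        2 * ∑ χ : IrrCharacter G, cf K χ l * cf K χ m := by
    rw [Finset.mul_sum, ← Finset.sum_add_distrib, ← Finset.sum_sub_distrib]
    exact Finset.sum_congr rfl fun χ _ => by ring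
  rw [h4, h1, h2, h3]
  ring

theorem cf_eq_of_rel (hC : ∀ k ∈ K, k ≠ 1 → Subgroup.centralizer {k} = K) (l m : K →* ℂˣ)
    (h : rel K l m) (χ : IrrCharacter G) : cf K χ l = cf K χ m := by
  classical
  have : Finite (IrrCharacter G) := finite_irr
  have : Fintype (IrrCharacter G) := Fintype.ofFinite _
  by_cases hm : m = 1
  · obtain ⟨s, hs, hsm⟩ := h
    have : l = 1 := by rw [← hsm, hm]; ext; rfl
    rw [this, hm]
  have hl : l ≠ 1 := by
    intro hl
    obtain ⟨s, hs, hsm⟩ := rel_symm h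
    apply hm
    rw [← hsm, hl]; ext; rfl
  have h1 := sum_sq hC l hl
  have h2 := sum_sq hC m hm
  have h3 := gram_int hC l m hl hm
  rw [if_pos h] at h3
  have h4 : ∑ χ : IrrCharacter G, (cf K χ l - cf K χ m) ^ 2 =
      ∑ χ : IrrCharacter G, cf K χ l ^ 2 + ∑ χ : IrrCharacter G, cf K χ m ^ 2 -
        2 * ∑ χ : IrrCharacter G, cf K χ l * cf K χ m := by
    rw [Finset.mul_sum, ← Finset.sum_add_distrib, ← Finset.sum_sub_distrib]
    exact Finset.sum_congr rfl fun χ _ => by ring
  have h5 : ∑ χ : IrrCharacter G, (cf K χ l - cf K χ m) ^ 2 = 0 := by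
    rw [h4, h1, h2, h3]; ring
  rw [Finset.sum_eq_zero_iff_of_nonneg (fun _ _ => sq_nonneg _)] at h5
  have h6 := h5 χ (Finset.mem_univ _)
  have h7 := pow_eq_zero_iff (two_ne_zero) |>.mp h6
  omega

/-- The size of an orbit of nontrivial linear characters. -/
theorem card_rel (hC : ∀ k ∈ K, k ≠ 1 → Subgroup.centralizer {k} = K) (l : K →* ℂˣ)
    (hl : l ≠ 1) : Nat.card {m : K →* ℂˣ // rel K m l} = Nat.card (autz K) := by
  classical
  symm
  refine Nat.card_congr (Equiv.ofBijective
    (fun s : autz K => (⟨l.comp (s : MulAut K).toMonoidHom, s.1, s.2, rfl⟩ :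
      {m : K →* ℂˣ // rel K m l})) ⟨?_, ?_⟩)
  · intro s t hst
    have h1 : l.comp (s : MulAut K).toMonoidHom = l.comp (t : MulAut K).toMonoidHom :=
      congrArg Subtype.val hst
    have h2 : l.comp ((s : MulAut K) * (t : MulAut K)⁻¹).toMonoidHom = l := by
      ext v
      have h3 : l ((s : MulAut K) ((t : MulAut K)⁻¹ v)) = l ((t : MulAut K) ((t : MulAut K)⁻¹ v)) :=
        DFunLike.congr_fun h1 _
      rw [MulAut.apply_inv_self] at h3
      simp only [MonoidHom.comp_apply, MulEquiv.toMonoidHom_eq_coe, MonoidHom.coe_coe,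
        MulAut.mul_apply, h3]
    have h3 := comp_eq_self (comm_of hC) _
      (semireg_of hC _ ((autz K).mul_mem s.2 ((autz K).inv_mem t.2))) l hl h2
    rw [mul_inv_eq_one] at h3
    exact Subtype.ext h3
  · rintro ⟨m, s, hs, hm⟩
    exact ⟨⟨s, hs⟩, Subtype.ext hm⟩

/-- values of `cf` if `χ` is constant on `K`. -/
theorem cf_of_const (χ : IrrCharacter G) (c : ℤ)
    (hc : ∀ k : K, k ≠ 1 → (χ : G → ℂ) k = c) (l : K →* ℂˣ) (hl : l ≠ 1) : cf K χ l = c := by
  classical
  have : Fintype K := Fintype.ofFinite K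
  have h1 : coef K (χ : G → ℂ) l = c * coef K (1 : G → ℂ) l := by
    rw [coef_eq, coef_eq, mul_left_comm, Finset.mul_sum (a := (c : ℂ))]
    congr 1
    refine Finset.sum_congr rfl fun k _ => ?_
    by_cases hk : k = 1
    · subst hk; simp [toFun]
    · rw [hc k hk, Pi.one_apply]; ring
  have h2 : coef K (1 : G → ℂ) l = 1 := by
    have h3 : coef K (1 : G → ℂ) l = classInner (toFun (1 : K →* ℂˣ)) (1 - toFun l) := by
      rw [coef]
      congr 1
    rw [h3, ← toFun_one, classInner_sub_right, classInner_toFun, classInner_toFun, if_pos rfl,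
      if_neg (Ne.symm hl)]
    ring
  rw [h2, mul_one, coef_eq_cf] at h1
  exact_mod_cast h1

/-- the degree modulo `|K|` of a character all of whose coefficients are equal. -/
theorem degree_of_cf (hab : ∀ x y : K, x * y = y * x) (χ : IrrCharacter G) (c : ℤ)
    (hc : ∀ l : K →* ℂˣ, l ≠ 1 → cf K χ l = c) :
    ∃ m : ℤ, (χ : G → ℂ) 1 = ((Nat.card K * m + c : ℤ) : ℂ) := by
  classical
  have : Fintype K := Fintype.ofFinite K
  have hfin : Finite (K →* ℂˣ) := finite_hom K
  have : Fintype (K →* ℂˣ) := Fintype.ofFinite _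
  have h1 := apply_one_eq K hab (χ : G → ℂ)
  obtain ⟨a, ha⟩ := classInner_isNat (isCharacter_comp K.subtype (isIrr_isCharacter χ.2))
    (isCharacter_one (G := K))
  have ha' : classInner (fun v : K => (χ : G → ℂ) v) 1 = a := ha
  have h2 : ∑ l : K →* ℂˣ, coef K (χ : G → ℂ) l = ((Nat.card K : ℂ) - 1) * c := by
    rw [← Finset.add_sum_erase _ _ (Finset.mem_univ (1 : K →* ℂˣ)), coef_one, zero_add]
    have h3 : ∀ l ∈ (Finset.univ.erase (1 : K →* ℂˣ)), coef K (χ : G → ℂ) l = c := by
      intro l hl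
      rw [coef_eq_cf, hc l (Finset.ne_of_mem_erase hl)]
    rw [Finset.sum_congr rfl h3, Finset.sum_const, Finset.card_erase_of_mem (Finset.mem_univ _),
      nsmul_eq_mul, Nat.cast_sub (Nat.one_le_iff_ne_zero.mpr (by
        rw [Finset.card_univ]; exact Fintype.card_ne_zero)), Finset.card_univ, card_hom hab,
        Nat.cast_one]
  refine ⟨a - c, ?_⟩
  rw [h1, ha', h2]
  push_cast
  ring

/-- the number of nontrivial linear characters. -/
theorem card_ne_one (hab : ∀ x y : K, x * y = y * x) :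
    Nat.card {l : K →* ℂˣ // l ≠ 1} = Nat.card K - 1 := by
  classical
  have : Fintype K := Fintype.ofFinite K
  have hfin : Finite (K →* ℂˣ) := finite_hom K
  have : Fintype (K →* ℂˣ) := Fintype.ofFinite _
  have h1 : Nat.card (K →* ℂˣ) = Nat.card K := by
    have := card_hom hab
    rw [Nat.card_eq_fintype_card]
    exact_mod_cast this
  rw [Nat.card_eq_fintype_card, Fintype.card_subtype_compl, ← Nat.card_eq_fintype_card, h1]
  simp

end Cfsg.Agent.BenderW3.TIGram
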